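import Mathlib
import Cfsg.Prelude.Def_Characters
import Cfsg.Prelude.Def_Blocks

set_option autoImplicit false

namespace Cfsg.Agent.Lib.Helper77

universe u

/-- The bilinear pairing of complex functions on a finite group. -/
noncomputable def pair {G : Type u} [Group G] [Fintype G] (φ ψ : G → ℂ) : ℂ :=
  (Nat.card G : ℂ)⁻¹ * ∑ g : G, φ g * ψ g⁻¹

theorem pair_sum_left {G : Type u} [Group G] [Fintype G] {ι : Type*} (s : Finset ι)
    (c : ι → ℂ) (f : ι → G → ℂ) (ψ : G → ℂ) :
    pair (∑ i ∈ s, c i • f i) ψ = ∑ i ∈ s, c i * pair (f i) ψ := by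
  unfold pair
  simp only [Finset.sum_apply, Pi.smul_apply, smul_eq_mul, Finset.sum_mul, Finset.mul_sum]
  rw [Finset.sum_comm]
  refine Finset.sum_congr rfl fun i _ => Finset.sum_congr rfl fun g _ => ?_
  ring

theorem irr_pair_fun {G : Type u} [Group G] [Fintype G] (χ ψ : G → ℂ)
    (hχ : Cfsg.IsIrrCharacter G χ) (hψ : Cfsg.IsIrrCharacter G ψ) :
    pair χ ψ = if χ = ψ then 1 else 0 := by
  classical
  obtain ⟨n, ρ, hρ, hχ⟩ := hχ
  obtain ⟨m, σ, hσ, hψ⟩ := hψ
  haveI : Invertible (Nat.card G : ℂ) :=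
    invertibleOfNonzero (by exact_mod_cast (Nat.card_pos (α := G)).ne')
  haveI := hρ
  haveI := hσ
  have h := Representation.char_orthonormal ρ σ
  unfold pair
  subst hχ hψ
  rw [h]
  by_cases hc : ρ.character = σ.character
  · rw [if_pos hc]
    by_cases he : Nonempty (σ.Equiv ρ)
    · rw [if_pos he]
    · exfalso
      have h1 := Representation.char_orthonormal ρ ρ
      rw [if_pos ⟨Representation.Equiv.refl ρ⟩] at h1
      rw [if_neg he] at h
      have h2 : (Nat.card G : ℂ)⁻¹ * ∑ g : G, ρ.character g * σ.character g⁻¹ = 1 := by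
        rw [← hc]; exact h1
      rw [h2] at h
      exact one_ne_zero h
  · rw [if_neg hc]
    by_cases he : Nonempty (σ.Equiv ρ)
    · exact absurd (Representation.char_iso he.some).symm hc
    · rw [if_neg he]

theorem irr_pair {G : Type u} [Group G] [Fintype G] (χ ψ : Cfsg.IrrCharacter G) :
    pair (χ : G → ℂ) (ψ : G → ℂ) = if χ = ψ then 1 else 0 := by
  classical
  rw [irr_pair_fun _ _ χ.2 ψ.2]
  by_cases h : χ = ψ
  · rw [if_pos h, if_pos (congrArg Subtype.val h)]
  · rw [if_neg h, if_neg (fun h' => h (Subtype.ext h'))]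

theorem irr_linearIndependent (G : Type u) [Group G] [Fintype G] :
    LinearIndependent ℂ (fun χ : Cfsg.IrrCharacter G => (χ : G → ℂ)) := by
  classical
  rw [linearIndependent_iff']
  intro s c hs j hj
  have h1 := pair_sum_left s c (fun χ : Cfsg.IrrCharacter G => (χ : G → ℂ)) (j : G → ℂ)
  rw [hs] at h1
  have h0 : pair (0 : G → ℂ) (j : G → ℂ) = 0 := by simp [pair]
  rw [h0] at h1
  simp only [irr_pair] at h1
  rw [Finset.sum_eq_single j] at h1
  · simpa using h1.symm
  · intro b _ hb
    simp [hb]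
  · intro hj'
    exact absurd hj hj'

theorem irr_finite (G : Type u) [Group G] [Finite G] : Finite (Cfsg.IrrCharacter G) := by
  have := Fintype.ofFinite G
  exact (irr_linearIndependent G).finite_of_isNoetherian

/-- The sum of a character over a subgroup is the order of the subgroup times a natural number. -/
theorem sum_subgroup_char {G : Type u} [Group G] [Finite G] (H : Subgroup G) [Fintype H]
    (χ : G → ℂ) (hχ : Cfsg.IsCharacter G χ) :
    ∃ m : ℕ, ∑ x : H, χ (x : G) = (Nat.card H : ℂ) * m := by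
  obtain ⟨n, ρ, rfl⟩ := hχ
  have hne : (Nat.card H : ℂ) ≠ 0 := by exact_mod_cast (Nat.card_pos (α := H)).ne'
  haveI : Invertible (Nat.card H : ℂ) := invertibleOfNonzero hne
  have h := Representation.card_inv_mul_sum_char_eq_finrank (ρ.comp H.subtype)
  refine ⟨Module.finrank ℂ (Representation.invariants (ρ.comp H.subtype)), ?_⟩
  rw [← h, ← mul_assoc, mul_inv_cancel₀ hne, one_mul]
  rfl

theorem irr_isCharacter {G : Type u} [Group G] (χ : Cfsg.IrrCharacter G) :
    Cfsg.IsCharacter G (χ : G → ℂ) := by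
  obtain ⟨n, ρ, _, h⟩ := χ.2
  exact ⟨n, ρ, h⟩

end Cfsg.Agent.Lib.Helper77
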