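import Mathlib
import Cfsg.Prelude.Def_Blocks
import Cfsg.Agent.Lib.Helper77.Osima
import Cfsg.Agent.Lib.Helper77.CharBasic
import Cfsg.Agent.Lib.Helper79.CharInt
import Cfsg.Agent.Lib.Helper79.ClassMult

/-!
# Degrees, defect zero, and the order of a defect group
-/

set_option autoImplicit false
set_option linter.unusedSectionVars false

namespace Cfsg.Agent.Lib.Helper77

open Cfsg Cfsg.Agent.Lib.Helper16 Cfsg.Agent.Lib.Helper81

section

variable {G : Type*} [Group G] [Fintype G] {M : Ideal Cfsg.AlgInt}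

theorem isIntegral_irr_apply (χ : Cfsg.IrrCharacter G) (g : G) : IsIntegral ℤ ((χ : G → ℂ) g) := by
  obtain ⟨n, ρ, _, hρ⟩ := χ.2
  rw [← hρ]
  exact Cfsg.Agent.Lib.Helper79.isIntegral_character ρ g

theorem memLocalRing_of_isIntegral' (hM : M.IsPrime) {z : ℂ} (hz : IsIntegral ℤ z) :
    Cfsg.MemLocalRing M z :=
  memLocalRing_of_algInt hM ⟨z, hz⟩

theorem memLocalRing_irr_apply (hM : M.IsPrime) (χ : Cfsg.IrrCharacter G) (g : G) :
    Cfsg.MemLocalRing M ((χ : G → ℂ) g) :=
  memLocalRing_of_isIntegral' hM (isIntegral_irr_apply χ g)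

/-- the idempotent coefficients of a single character -/
theorem blockCoeff_singleton (χ : Cfsg.IrrCharacter G) (g : G) :
    Cfsg.blockCoeff {χ} g = (Nat.card G : ℂ)⁻¹ * ((χ : G → ℂ) 1 * (χ : G → ℂ) g⁻¹) := by
  unfold Cfsg.blockCoeff
  rw [finsum_mem_singleton, irr_inv]

/-- A character of `p`-defect zero is alone in its block. -/
theorem blockOf_eq_singleton_of_defect_zero {p : ℕ} [Fact p.Prime] (hM : Cfsg.IsPModular p M)
    (χ : Cfsg.IrrCharacter G) (h : ¬ p ∣ Nat.card G / Cfsg.charDegree (χ : G → ℂ)) :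
    Cfsg.blockOf M (χ : G → ℂ) = {χ} := by
  have hMp := isPrime_of_isPModular hM
  obtain ⟨h1, hpos, hdvd⟩ := Cfsg.Agent.Lib.Helper79.irr_charDegree χ.2
  set d := Cfsg.charDegree (χ : G → ℂ) with hd
  obtain ⟨n, hn⟩ := hdvd
  have hn' : Nat.card G / d = n := by rw [hn]; exact Nat.mul_div_cancel_left n hpos
  rw [hn'] at h
  have hn0 : (n : ℂ) ≠ 0 := by
    intro h0
    have : n = 0 := by exact_mod_cast h0
    rw [this] at h; exact h (dvd_zero p)
  have hd0 : (d : ℂ) ≠ 0 := by exact_mod_cast hpos.ne'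
  apply Set.Subset.antisymm
  · apply blockOf_subset_of_memLocalRing hMp {χ} _ (Set.mem_singleton χ)
    intro g
    rw [blockCoeff_singleton, h1, hn]
    have e : ((d * n : ℕ) : ℂ)⁻¹ * ((d : ℂ) * (χ : G → ℂ) g⁻¹) = (n : ℂ)⁻¹ * (χ : G → ℂ) g⁻¹ := by
      push_cast
      field_simp
    rw [e]
    exact memLocalRing_mul hMp (memLocalRing_inv_natCast hM h) (memLocalRing_irr_apply hMp χ _)
  · intro ψ hψ
    rw [Set.mem_singleton_iff] at hψ
    rw [hψ]
    exact mem_blockOf_self hMp χ

/-- A character which is alone in its block vanishes on `p`-singular elements. -/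
theorem irr_eq_zero_of_singular_of_blockOf_eq {p : ℕ} [Fact p.Prime] (hM : Cfsg.IsPModular p M)
    (χ : Cfsg.IrrCharacter G) (h : Cfsg.blockOf M (χ : G → ℂ) = {χ}) {g : G}
    (hg : p ∣ orderOf g) : (χ : G → ℂ) g = 0 := by
  have hg' : p ∣ orderOf g⁻¹ := by rwa [orderOf_inv]
  have h0 := blockCoeff_eq_zero_of_singular hM (Cfsg.blockOf M (χ : G → ℂ)) (isPBlock_blockOf χ) hg'
  rw [h, blockCoeff_singleton, inv_inv] at h0
  have hG : (Nat.card G : ℂ)⁻¹ ≠ 0 := inv_ne_zero (by exact_mod_cast Nat.card_pos.ne')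
  have h1 := irr_one_ne_zero χ
  rcases mul_eq_zero.mp h0 with h2 | h2
  · exact absurd h2 hG
  · rcases mul_eq_zero.mp h2 with h3 | h3
    · exact absurd h3 h1
    · exact h3

/-- A character which is alone in its block has `p`-defect zero. -/
theorem defect_zero_of_blockOf_eq {p : ℕ} [Fact p.Prime] (hM : Cfsg.IsPModular p M)
    (χ : Cfsg.IrrCharacter G) (h : Cfsg.blockOf M (χ : G → ℂ) = {χ}) :
    ¬ p ∣ Nat.card G / Cfsg.charDegree (χ : G → ℂ) := by
  classical
  have hp := (Fact.out : p.Prime)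
  obtain ⟨h1, hpos, hdvd⟩ := Cfsg.Agent.Lib.Helper79.irr_charDegree χ.2
  set d := Cfsg.charDegree (χ : G → ℂ) with hd
  obtain ⟨P⟩ : Nonempty (Sylow p G) := inferInstance
  have hFP : Fintype (P : Subgroup G) := Fintype.ofFinite _
  obtain ⟨m, hm⟩ := sum_subgroup_char (P : Subgroup G) (χ : G → ℂ) (irr_isCharacter χ)
  have hsum : ∑ x : (P : Subgroup G), (χ : G → ℂ) (x : G) = (χ : G → ℂ) 1 := by
    rw [Finset.sum_eq_single (1 : (P : Subgroup G))]
    · rfl
    · intro x _ hx
      apply irr_eq_zero_of_singular_of_blockOf_eq hM χ h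
      obtain ⟨k, hk⟩ := (IsPGroup.iff_orderOf.mp P.isPGroup') x
      rw [Subgroup.orderOf_coe, hk]
      have hk0 : k ≠ 0 := by
        intro h0
        rw [h0, pow_zero, orderOf_eq_one_iff] at hk
        exact hx hk
      exact dvd_pow_self p hk0
    · intro h'; exact absurd (Finset.mem_univ _) h'
  rw [hsum, h1] at hm
  have hm' : d = Nat.card (P : Subgroup G) * m := by exact_mod_cast hm
  have hcard := P.card_eq_multiplicity
  obtain ⟨n, hn⟩ := hdvd
  have hn' : Nat.card G / d = n := by rw [hn]; exact Nat.mul_div_cancel_left n hpos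
  rw [hn']
  intro hpn
  obtain ⟨n', rfl⟩ := hpn
  have hdvd2 : p ^ ((Nat.card G).factorization p + 1) ∣ Nat.card G := by
    generalize (Nat.card G).factorization p = a at hcard ⊢
    have e : Nat.card G = p ^ (a + 1) * (m * n') := by
      rw [hn, hm', hcard]; ring
    exact ⟨m * n', e⟩
  exact Nat.pow_succ_factorization_not_dvd Nat.card_pos.ne' hp hdvd2

end

section TraceIntegral

variable {V : Type*} [AddCommGroup V] [Module ℂ V] [FiniteDimensional ℂ V]

/-- The trace of an endomorphism `f` with `f ^ (m + 1) = f`, `0 < m`, is an algebraic integer. -/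
theorem isIntegral_trace_of_pow_succ_eq (f : Module.End ℂ V) (m : ℕ) (hm : 0 < m)
    (hf : f ^ (m + 1) = f) : IsIntegral ℤ (LinearMap.trace ℂ V f) := by
  rw [Module.End.trace_eq_sum_roots_charpoly_of_splits (IsAlgClosed.splits _)]
  apply IsIntegral.multiset_sum
  intro μ hμ
  have hroot : f.charpoly.IsRoot μ := (Polynomial.mem_roots'.mp hμ).2
  have hev : f.HasEigenvalue μ := (Module.End.hasEigenvalue_iff_isRoot_charpoly f μ).mpr hroot
  obtain ⟨v, hv⟩ := hev.exists_hasEigenvector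
  have h1 := hv.pow_apply (m + 1)
  rw [hf, hv.apply_eq_smul] at h1
  have h3 : (μ ^ (m + 1) - μ) • v = 0 := by rw [sub_smul, ← h1, sub_self]
  have h2 : μ ^ (m + 1) = μ := by
    rcases smul_eq_zero.mp h3 with h | h
    · exact sub_eq_zero.mp h
    · exact absurd h hv.2
  by_cases hμ0 : μ = 0
  · rw [hμ0]; exact isIntegral_zero
  · have h4 : μ ^ m = 1 := by
      have h5 : μ ^ m * μ = 1 * μ := by rw [← pow_succ, h2, one_mul]
      exact mul_right_cancel₀ hμ0 h5
    exact IsIntegral.of_pow hm (h4 ▸ isIntegral_one)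

end TraceIntegral

section SumSubgroup

variable {G : Type*} [Group G] [Fintype G] {M : Ideal Cfsg.AlgInt}

/-- For a character `χ`, a subgroup `P` and an element `x` centralizing `P`, the sum of
`χ (u * x)` over `u ∈ P` is the order of `P` times an algebraic integer. -/
theorem sum_subgroup_char_mul (P : Subgroup G) [Fintype P] (χ : G → ℂ)
    (hχ : Cfsg.IsCharacter G χ) (x : G) (hx : ∀ u ∈ P, u * x = x * u) :
    ∃ t : ℂ, IsIntegral ℤ t ∧ ∑ u : P, χ ((u : G) * x) = (Nat.card P : ℂ) * t := by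
  classical
  obtain ⟨n, ρ, rfl⟩ := hχ
  have hne : (Nat.card P : ℂ) ≠ 0 := by exact_mod_cast (Nat.card_pos (α := P)).ne'
  set A : Module.End ℂ (Fin n → ℂ) := ∑ u : P, ρ (u : G) with hA
  set π : Module.End ℂ (Fin n → ℂ) := (Nat.card P : ℂ)⁻¹ • A with hπ
  have hAA : A * A = (Nat.card P : ℂ) • A := by
    rw [hA, Finset.sum_mul]
    have h1 : ∀ u : P, ρ (u : G) * ∑ v : P, ρ (v : G) = ∑ v : P, ρ (v : G) := by
      intro u
      rw [Finset.mul_sum]
      apply Fintype.sum_equiv (Equiv.mulLeft u)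
      intro v
      simp [map_mul]
    rw [Finset.sum_congr rfl (fun u _ => h1 u), Finset.sum_const, Finset.card_univ,
      Nat.card_eq_fintype_card]
    simp [Nat.cast_smul_eq_nsmul]
  have hππ : π * π = π := by
    rw [hπ, smul_mul_smul_comm, hAA, smul_smul]
    congr 1
    field_simp
  have hAx : A * ρ x = ρ x * A := by
    rw [hA, Finset.sum_mul, Finset.mul_sum]
    refine Finset.sum_congr rfl fun u _ => ?_
    rw [← map_mul, ← map_mul, hx u u.2]
  have hπx : π * ρ x = ρ x * π := by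
    rw [hπ, smul_mul_assoc, hAx, mul_smul_comm]
  set S := π * ρ x with hS
  have hSpow : ∀ k : ℕ, S ^ (k + 1) = π * ρ x ^ (k + 1) := by
    intro k
    induction k with
    | zero => simp [hS]
    | succ k ih =>
      rw [pow_succ, ih, hS]
      calc π * ρ x ^ (k + 1) * (π * ρ x) = π * (ρ x ^ (k + 1) * π) * ρ x := by
            simp only [mul_assoc]
        _ = π * (π * ρ x ^ (k + 1)) * ρ x := by
            rw [(Commute.pow_left (show Commute (ρ x) π from hπx.symm) (k + 1)).eq]
        _ = (π * π) * (ρ x ^ (k + 1) * ρ x) := by simp only [mul_assoc]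
        _ = π * ρ x ^ (k + 1 + 1) := by rw [hππ, ← pow_succ]
  have hSS : S ^ (orderOf x + 1) = S := by
    rw [hSpow, ← map_pow, pow_succ, pow_orderOf_eq_one, one_mul]
  have hint := isIntegral_trace_of_pow_succ_eq S (orderOf x) (orderOf_pos x) hSS
  refine ⟨LinearMap.trace ℂ _ S, hint, ?_⟩
  rw [hS, hπ, smul_mul_assoc, map_smul, smul_eq_mul, ← mul_assoc, mul_inv_cancel₀ hne, one_mul,
    hA, Finset.sum_mul, map_sum]
  refine Finset.sum_congr rfl fun u _ => ?_
  rw [← map_mul]
  rfl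

end SumSubgroup

section DefectOrder

variable {G : Type*} [Group G] [Fintype G] {M : Ideal Cfsg.AlgInt}

/-- If the central character of `χ` at `g` is not in the local ideal, then every power of `p`
dividing the class size of `g` divides the degree of `χ`. -/
theorem pow_dvd_charDegree_of_centralChar {p : ℕ} [Fact p.Prime] (hM : Cfsg.IsPModular p M)
    (χ : Cfsg.IrrCharacter G) (g : G)
    (hg : ¬ Cfsg.MemLocalIdeal M (Cfsg.centralChar (χ : G → ℂ) g)) (i : ℕ)
    (hi : p ^ i ∣ (Subgroup.centralizer ({g} : Set G)).index) :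
    p ^ i ∣ Cfsg.charDegree (χ : G → ℂ) := by
  have hMp := isPrime_of_isPModular hM
  have hp := (Fact.out : p.Prime)
  obtain ⟨h1, hpos, -⟩ := Cfsg.Agent.Lib.Helper79.irr_charDegree χ.2
  set d := Cfsg.charDegree (χ : G → ℂ) with hd
  obtain ⟨e, d', hd', hde⟩ := Nat.exists_eq_pow_mul_and_not_dvd hpos.ne' p hp.ne_one
  by_cases hie : i ≤ e
  · rw [hde]
    exact (pow_dvd_pow p hie).mul_right d'
  · exfalso
    apply hg
    obtain ⟨r, hr⟩ := hi
    obtain ⟨c, hc⟩ : ∃ c, i = e + 1 + c := ⟨i - e - 1, by omega⟩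
    have hp0 : (p : ℂ) ≠ 0 := by exact_mod_cast hp.ne_zero
    have hd'0 : (d' : ℂ) ≠ 0 := by
      intro h0
      have : d' = 0 := by exact_mod_cast h0
      rw [this] at hd'; exact hd' (dvd_zero p)
    have e1 : Cfsg.centralChar (χ : G → ℂ) g =
        (p : ℂ) * ((p : ℂ) ^ c * (r : ℂ) * (χ : G → ℂ) g * (d' : ℂ)⁻¹) := by
      unfold Cfsg.centralChar
      rw [h1, hr, hde, hc]
      push_cast
      field_simp
      ring
    rw [e1]
    apply memLocalIdeal_mul_right hMp ((memLocalIdeal_natCast_iff hM p).mpr dvd_rfl)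
    refine memLocalRing_mul hMp (memLocalRing_mul hMp (memLocalRing_mul hMp ?_ ?_) ?_) ?_
    · exact memLocalRing_pow hMp (memLocalRing_natCast hMp p) c
    · exact memLocalRing_natCast hMp r
    · exact memLocalRing_irr_apply hMp χ g
    · exact memLocalRing_inv_natCast hM hd'

/-- If all degrees in the block `B` are divisible by `p ^ k` and the idempotent coefficient of
`B` at `g` is not in the local ideal, then a `p`-subgroup of order `p ^ j` centralizing `g`
satisfies `k + j ≤ a`, where `p ^ a` is the `p`-part of the group order. -/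
theorem defect_bound_of_blockCoeff {p : ℕ} [Fact p.Prime] (hM : Cfsg.IsPModular p M)
    (B : Set (Cfsg.IrrCharacter G)) (hB : Cfsg.IsPBlock M B) (k : ℕ)
    (hk : ∀ χ ∈ B, p ^ k ∣ Cfsg.charDegree (χ : G → ℂ)) (Q : Subgroup G) (j : ℕ)
    (hQ : Nat.card Q = p ^ j) (g : G) (hQg : ∀ u ∈ Q, u * g = g * u)
    (hg : ¬ Cfsg.MemLocalIdeal M (Cfsg.blockCoeff B g)) :
    k + j ≤ (Nat.card G).factorization p := by
  classical
  have hMp := isPrime_of_isPModular hM
  have hp := (Fact.out : p.Prime)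
  have := irr_finite G
  have := Fintype.ofFinite (Cfsg.IrrCharacter G)
  have hFQ : Fintype Q := Fintype.ofFinite _
  by_contra hcon
  push Not at hcon
  apply hg
  have hreg : ¬ p ∣ orderOf g := by
    intro h
    apply hg
    rw [blockCoeff_eq_zero_of_singular hM B hB h]
    exact memLocalIdeal_zero hMp
  have hQp : IsPGroup p Q := IsPGroup.of_card hQ
  set x := g⁻¹ with hx
  have hQx : ∀ u ∈ Q, u * x = x * u := by
    intro u hu
    have h1 := hQg u hu
    rw [hx]
    calc u * g⁻¹ = g⁻¹ * (g * u) * g⁻¹ := by group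
      _ = g⁻¹ * (u * g) * g⁻¹ := by rw [h1]
      _ = g⁻¹ * u := by group
  -- the function `F y = ∑_{χ ∈ B} χ 1 * χ y`
  set F : G → ℂ := fun y => ∑ χ : Cfsg.IrrCharacter G,
    if χ ∈ B then (χ : G → ℂ) 1 * (χ : G → ℂ) y else 0 with hF
  have hFb : ∀ y : G, Cfsg.blockCoeff B y⁻¹ = (Nat.card G : ℂ)⁻¹ * F y := by
    intro y
    rw [blockCoeff_eq_sum, inv_inv]
  have hG0 : (Nat.card G : ℂ) ≠ 0 := by exact_mod_cast Nat.card_pos.ne'
  have hF0 : ∀ u : Q, u ≠ 1 → F ((u : G) * x) = 0 := by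
    intro u hu
    have hsing : p ∣ orderOf ((u : G) * x) := by
      obtain ⟨i, hi⟩ := (IsPGroup.iff_orderOf.mp hQp) u
      have hi0 : i ≠ 0 := by
        intro h0
        rw [h0, pow_zero, orderOf_eq_one_iff] at hi
        exact hu hi
      have hcop : Nat.Coprime (orderOf (u : G)) (orderOf x) := by
        rw [Subgroup.orderOf_coe, hi, hx, orderOf_inv]
        exact Nat.Coprime.pow_left i ((Nat.Prime.coprime_iff_not_dvd hp).mpr hreg)
      have hcomm : Commute (u : G) x := hQx u u.2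
      rw [hcomm.orderOf_mul_eq_mul_orderOf_of_coprime hcop, Subgroup.orderOf_coe, hi]
      exact (dvd_pow_self p hi0).mul_right _
    have h0 := blockCoeff_eq_zero_of_singular hM B hB (g := ((u : G) * x)⁻¹)
      (by rwa [orderOf_inv])
    rw [hFb] at h0
    rcases mul_eq_zero.mp h0 with h | h
    · exact absurd h (inv_ne_zero hG0)
    · exact h
  have hsum1 : ∑ u : Q, F ((u : G) * x) = F x := by
    rw [Finset.sum_eq_single (1 : Q)]
    · simp
    · intro u _ hu
      exact hF0 u hu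
    · intro h; exact absurd (Finset.mem_univ _) h
  have hex : ∀ χ : Cfsg.IrrCharacter G, ∃ t : ℂ, IsIntegral ℤ t ∧
      ∑ u : Q, (χ : G → ℂ) ((u : G) * x) = (Nat.card Q : ℂ) * t :=
    fun χ => sum_subgroup_char_mul Q (χ : G → ℂ) (irr_isCharacter χ) x hQx
  choose t ht1 ht2 using hex
  have hdeg : ∀ χ : Cfsg.IrrCharacter G, χ ∈ B → ∃ c : ℕ, (χ : G → ℂ) 1 = (p : ℂ) ^ k * (c : ℂ) := by
    intro χ hχ
    obtain ⟨c, hc⟩ := hk χ hχ
    refine ⟨c, ?_⟩
    rw [(Cfsg.Agent.Lib.Helper79.irr_charDegree χ.2).1, hc]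
    push_cast
    ring
  choose! c hc using hdeg
  have hsum2 : ∑ u : Q, F ((u : G) * x) = (p : ℂ) ^ (k + j) *
      ∑ χ : Cfsg.IrrCharacter G, if χ ∈ B then (c χ : ℂ) * t χ else 0 := by
    simp only [hF]
    rw [Finset.sum_comm, Finset.mul_sum]
    refine Finset.sum_congr rfl fun χ _ => ?_
    by_cases hχ : χ ∈ B
    · simp only [if_pos hχ]
      rw [← Finset.mul_sum, ht2 χ, hc χ hχ, hQ]
      push_cast
      ring
    · simp only [if_neg hχ, Finset.sum_const_zero, mul_zero]
  set T := ∑ χ : Cfsg.IrrCharacter G, if χ ∈ B then (c χ : ℂ) * t χ else 0 with hT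
  have hTR : Cfsg.MemLocalRing M T := by
    apply memLocalRing_sum hMp
    intro χ _
    split_ifs
    · exact memLocalRing_mul hMp (memLocalRing_natCast hMp _) (memLocalRing_of_isIntegral' hMp (ht1 χ))
    · exact memLocalRing_zero hMp
  -- `|G| = p ^ a * m`
  obtain ⟨a, m, hm, hGam⟩ := Nat.exists_eq_pow_mul_and_not_dvd (Nat.card_pos (α := G)).ne' p
    hp.ne_one
  have hm0 : m ≠ 0 := by
    rintro rfl
    exact hm (dvd_zero p)
  have ha : (Nat.card G).factorization p = a := by
    rw [hGam, Nat.factorization_mul (pow_ne_zero a hp.ne_zero) hm0]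
    simp [Nat.factorization_eq_zero_of_not_dvd hm, hp.factorization_pow]
  rw [ha] at hcon
  obtain ⟨e, he⟩ : ∃ e, k + j = a + 1 + e := ⟨k + j - a - 1, by omega⟩
  have hp0 : (p : ℂ) ≠ 0 := by exact_mod_cast hp.ne_zero
  have hmC : (m : ℂ) ≠ 0 := by exact_mod_cast hm0
  have e1 : Cfsg.blockCoeff B g = (p : ℂ) * ((p : ℂ) ^ e * T * (m : ℂ)⁻¹) := by
    have h2 := hFb x
    rw [hx, inv_inv] at h2
    rw [h2, ← hx, ← hsum1, hsum2, he, hGam]
    push_cast
    field_simp
    ring
  rw [e1]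
  apply memLocalIdeal_mul_right hMp ((memLocalIdeal_natCast_iff hM p).mpr dvd_rfl)
  exact memLocalRing_mul hMp (memLocalRing_mul hMp (memLocalRing_pow hMp (memLocalRing_natCast hMp p) e)
    hTR) (memLocalRing_inv_natCast hM hm)

end DefectOrder

section DefectCard

variable {G : Type*} [Group G] [Fintype G] {M : Ideal Cfsg.AlgInt}

/-- The order of a defect group of `B` is `p ^ d`, `d` the defect of `B`. -/
theorem card_isDefectGroup {p : ℕ} [Fact p.Prime] (hM : Cfsg.IsPModular p M)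
    (B : Set (Cfsg.IrrCharacter G)) (hB : Cfsg.IsPBlock M B) (D : Subgroup G)
    (hD : Cfsg.IsDefectGroup p M B D) : Nat.card D = p ^ Cfsg.blockDefect p B := by
  classical
  have hMp := isPrime_of_isPModular hM
  have hp := (Fact.out : p.Prime)
  obtain ⟨g, hg, Q, rfl⟩ := hD
  obtain ⟨χ₀, hχ₀⟩ := IsPBlock.nonempty hMp hB
  set a := (Nat.card G).factorization p with ha
  set j := (Nat.card (Subgroup.centralizer ({g} : Set G))).factorization p with hj
  have hcard : Nat.card ((Q : Subgroup (Subgroup.centralizer ({g} : Set G))).map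
      (Subgroup.centralizer ({g} : Set G)).subtype) = p ^ j := by
    rw [Subgroup.card_map_of_injective (Subgroup.subtype_injective _), Q.card_eq_multiplicity]
  have hidx0 : (Subgroup.centralizer ({g} : Set G)).index ≠ 0 := Subgroup.index_ne_zero_of_finite
  have hfac : a = j + ((Subgroup.centralizer ({g} : Set G)).index).factorization p := by
    rw [ha, ← Subgroup.card_mul_index (Subgroup.centralizer ({g} : Set G)),
      Nat.factorization_mul Nat.card_pos.ne' hidx0]
    rfl
  have hidx : p ^ (a - j) ∣ (Subgroup.centralizer ({g} : Set G)).index := by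
    have h1 : a - j = ((Subgroup.centralizer ({g} : Set G)).index).factorization p := by omega
    rw [h1]
    exact Nat.ordProj_dvd _ p
  have hdegpos : ∀ χ : Cfsg.IrrCharacter G, Cfsg.charDegree (χ : G → ℂ) ≠ 0 :=
    fun χ => (Cfsg.Agent.Lib.Helper79.irr_charDegree χ.2).2.1.ne'
  have hlow : ∀ χ ∈ B, a - j ≤ (Cfsg.charDegree (χ : G → ℂ)).factorization p := by
    intro χ hχ
    have h1 := pow_dvd_charDegree_of_centralChar hM χ g (hg.2.2 χ hχ) (a - j) hidx
    exact (hp.pow_dvd_iff_le_factorization (hdegpos χ)).mp h1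
  set S : Set ℕ := (fun χ : Cfsg.IrrCharacter G =>
    (Cfsg.charDegree (χ : G → ℂ)).factorization p) '' B with hS
  have hSne : S.Nonempty := ⟨_, Set.mem_image_of_mem _ hχ₀⟩
  have hμS := Nat.sInf_mem hSne
  set μ := sInf S with hμ
  obtain ⟨χ₁, hχ₁, hχ₁μ⟩ := hμS
  have h1 : a - j ≤ μ := by
    rw [← hχ₁μ]
    exact hlow χ₁ hχ₁
  have hk : ∀ χ ∈ B, p ^ μ ∣ Cfsg.charDegree (χ : G → ℂ) := by
    intro χ hχ
    rw [hp.pow_dvd_iff_le_factorization (hdegpos χ)]
    exact Nat.sInf_le (Set.mem_image_of_mem _ hχ)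
  have hQg : ∀ u ∈ (Q : Subgroup (Subgroup.centralizer ({g} : Set G))).map
      (Subgroup.centralizer ({g} : Set G)).subtype, u * g = g * u := by
    rintro _ ⟨y, _, rfl⟩
    have := (Subgroup.mem_centralizer_iff.mp y.2) g rfl
    exact this.symm
  have h2 := defect_bound_of_blockCoeff hM B hB μ hk _ j hcard g hQg hg.2.1
  rw [hcard]
  congr 1
  unfold Cfsg.blockDefect
  rw [← ha, ← hS, ← hμ]
  have hja : j ≤ a := by omega
  omega

end DefectCard

end Cfsg.Agent.Lib.Helper77
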