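import Mathlib
import Cfsg.Prelude.Def_Blocks
import Cfsg.Prelude.Def_BrauerPairs
import Cfsg.Agent.Lib.Helper77.ClassAlg
import Cfsg.Agent.Lib.Helper77.Orbit

/-!
# The Brauer map on coefficient functions

Restriction to and extension by zero from a subgroup, invariance under conjugation by the
elements of a subgroup, and the multiplicativity modulo the local ideal of truncation to the
centralizer of a `p`-subgroup.  `Cfsg.brauerOmega` is then a functional which is
multiplicative modulo the local ideal on the admissible coefficient functions.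
-/

set_option autoImplicit false
set_option linter.unusedSectionVars false

namespace Cfsg.Agent.Lib.Helper77

open Cfsg Cfsg.Agent.Lib.Helper16 Cfsg.Agent.Lib.Helper81

section Ext

variable {G : Type*} [Group G] {M : Ideal Cfsg.AlgInt}

open scoped Classical in
/-- extension by zero of a function on a subgroup -/
noncomputable def ext0 (H : Subgroup G) (c : H → ℂ) : G → ℂ :=
  fun g => if h : g ∈ H then c ⟨g, h⟩ else 0

theorem ext0_of_mem (H : Subgroup G) (c : H → ℂ) {g : G} (hg : g ∈ H) :
    ext0 H c g = c ⟨g, hg⟩ := dif_pos hg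

theorem ext0_of_not_mem (H : Subgroup G) (c : H → ℂ) {g : G} (hg : g ∉ H) :
    ext0 H c g = 0 := dif_neg hg

theorem ext0_coe (H : Subgroup G) (c : H → ℂ) (k : H) : ext0 H c (k : G) = c k := by
  rw [ext0_of_mem H c k.2]

theorem subgroupBlockCoeff_eq_ext0 (H : Subgroup G) (e : Set (Cfsg.IrrCharacter H)) :
    Cfsg.subgroupBlockCoeff H e = ext0 H (Cfsg.blockCoeff e) := rfl

/-- restriction of a coefficient function to a subgroup -/
def res (H : Subgroup G) (a : G → ℂ) : H → ℂ := fun h => a (h : G)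

theorem res_apply (H : Subgroup G) (a : G → ℂ) (h : H) : res H a h = a (h : G) := rfl

theorem res_ext0 (H : Subgroup G) (c : H → ℂ) : res H (ext0 H c) = c :=
  funext fun k => ext0_coe H c k

theorem ext0_add (H : Subgroup G) (c d : H → ℂ) : ext0 H (c + d) = ext0 H c + ext0 H d := by
  funext g
  by_cases hg : g ∈ H
  · simp [ext0_of_mem H _ hg]
  · simp [ext0_of_not_mem H _ hg]

theorem ext0_sub (H : Subgroup G) (c d : H → ℂ) : ext0 H (c - d) = ext0 H c - ext0 H d := by
  funext g
  by_cases hg : g ∈ H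
  · simp [ext0_of_mem H _ hg]
  · simp [ext0_of_not_mem H _ hg]

theorem ext0_smul (H : Subgroup G) (r : ℂ) (c : H → ℂ) : ext0 H (r • c) = r • ext0 H c := by
  funext g
  by_cases hg : g ∈ H
  · simp [ext0_of_mem H _ hg]
  · simp [ext0_of_not_mem H _ hg]

theorem ext0_zero (H : Subgroup G) : ext0 H (0 : H → ℂ) = 0 := by
  funext g
  by_cases hg : g ∈ H
  · simp [ext0_of_mem H _ hg]
  · simp [ext0_of_not_mem H _ hg]

open scoped Classical in
theorem delta1_eq (g : G) : (delta1 : G → ℂ) g = if g = 1 then 1 else 0 := rfl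

theorem delta1_one : (delta1 : G → ℂ) 1 = 1 := by
  rw [delta1_eq, if_pos rfl]

theorem delta1_of_ne {g : G} (hg : g ≠ 1) : (delta1 : G → ℂ) g = 0 := by
  rw [delta1_eq, if_neg hg]

theorem ext0_delta1 (H : Subgroup G) : ext0 H (delta1 : H → ℂ) = delta1 := by
  funext g
  by_cases hg : g ∈ H
  · rw [ext0_of_mem H _ hg]
    by_cases h1 : g = 1
    · subst h1
      rw [delta1_one]
      exact delta1_one
    · rw [delta1_of_ne h1, delta1_of_ne]
      intro h
      exact h1 (congrArg Subtype.val h)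
  · rw [ext0_of_not_mem H _ hg, delta1_of_ne]
    rintro rfl
    exact hg H.one_mem

theorem res_add (H : Subgroup G) (a b : G → ℂ) : res H (a + b) = res H a + res H b := rfl

theorem res_sub (H : Subgroup G) (a b : G → ℂ) : res H (a - b) = res H a - res H b := rfl

theorem res_smul (H : Subgroup G) (r : ℂ) (a : G → ℂ) : res H (r • a) = r • res H a := rfl

theorem res_delta1 (H : Subgroup G) : res H (delta1 : G → ℂ) = delta1 := by
  funext k
  rw [res_apply]
  by_cases h1 : k = 1
  · subst h1
    rw [delta1_one]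
    exact delta1_one
  · rw [delta1_of_ne h1, delta1_of_ne]
    intro h
    exact h1 (Subtype.ext h)

theorem locInt_ext0 (hM : M.IsPrime) (H : Subgroup G) {c : H → ℂ} (hc : LocInt M c) :
    LocInt M (ext0 H c) := by
  intro g
  by_cases hg : g ∈ H
  · rw [ext0_of_mem H _ hg]; exact hc _
  · rw [ext0_of_not_mem H _ hg]; exact memLocalRing_zero hM

theorem locIdl_ext0 (hM : M.IsPrime) (H : Subgroup G) {c : H → ℂ} (hc : LocIdl M c) :
    LocIdl M (ext0 H c) := by
  intro g
  by_cases hg : g ∈ H
  · rw [ext0_of_mem H _ hg]; exact hc _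
  · rw [ext0_of_not_mem H _ hg]; exact memLocalIdeal_zero hM

theorem locInt_res (H : Subgroup G) {a : G → ℂ} (ha : LocInt M a) : LocInt M (res H a) :=
  fun k => ha k

theorem locIdl_res (H : Subgroup G) {a : G → ℂ} (ha : LocIdl M a) : LocIdl M (res H a) :=
  fun k => ha k

theorem sum_ext0_mul [Fintype G] (H : Subgroup G) [Fintype H] (c : H → ℂ) (φ : G → ℂ) :
    ∑ g : G, ext0 H c g * φ g = ∑ k : H, c k * φ (k : G) := by
  classical
  have h1 : ∑ g ∈ Finset.univ.filter (· ∈ H), ext0 H c g * φ g =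
      ∑ k : H, ext0 H c (k : G) * φ (k : G) :=
    Finset.sum_subtype _ (by simp) _
  simp only [ext0_coe] at h1
  rw [← h1, Finset.sum_filter]
  refine Finset.sum_congr rfl fun g _ => ?_
  by_cases hg : g ∈ H
  · rw [if_pos hg]
  · rw [if_neg hg, ext0_of_not_mem H c hg, zero_mul]

theorem sum_res [Fintype G] (H : Subgroup G) [Fintype H] (φ : G → ℂ) :
    ∑ k : H, φ (k : G) = ∑ g : G, ext0 H (fun _ => 1) g * φ g := by
  rw [sum_ext0_mul]
  simp

theorem conv_ext0 [Fintype G] (H : Subgroup G) [Fintype H] (c d : H → ℂ) :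
    conv (ext0 H c) (ext0 H d) = ext0 H (conv c d) := by
  funext g
  unfold conv
  rw [sum_ext0_mul H c (fun x => ext0 H d (x⁻¹ * g))]
  by_cases hg : g ∈ H
  · rw [ext0_of_mem H _ hg]
    refine Finset.sum_congr rfl fun k _ => ?_
    congr 1
    exact ext0_coe H d (k⁻¹ * ⟨g, hg⟩)
  · rw [ext0_of_not_mem H _ hg]
    refine Finset.sum_eq_zero fun k _ => ?_
    have : (k : G)⁻¹ * g ∉ H := by
      intro h'
      apply hg
      have := H.mul_mem k.2 h'
      simpa using this
    rw [ext0_of_not_mem H d this, mul_zero]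

theorem ext0_cpow [Fintype G] (H : Subgroup G) [Fintype H] (c : H → ℂ) (n : ℕ) :
    ext0 H (cpow c n) = cpow (ext0 H c) n := by
  induction n with
  | zero => rw [cpow_zero, cpow_zero, ext0_delta1]
  | succ n ih => rw [cpow_succ, cpow_succ, ← conv_ext0, ih]

/-- invariance of a coefficient function under conjugation by the elements of a subgroup -/
def InvBy (K : Subgroup G) (a : G → ℂ) : Prop := ∀ k ∈ K, ∀ g : G, a (k * g * k⁻¹) = a g

theorem InvBy.mono {K K' : Subgroup G} (h : K' ≤ K) {a : G → ℂ} (ha : InvBy K a) :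
    InvBy K' a := fun k hk g => ha k (h hk) g

theorem invBy_of_isClassFunction {a : G → ℂ} (ha : Cfsg.IsClassFunction G a) (K : Subgroup G) :
    InvBy K a := fun k _ g => ha g k

theorem invBy_delta1 (K : Subgroup G) : InvBy K (delta1 : G → ℂ) := by
  classical
  intro k _ g
  rw [delta1_eq, delta1_eq]
  have e : k * g * k⁻¹ = 1 ↔ g = 1 := by
    constructor
    · intro h
      have h2 : g = k⁻¹ * (k * g * k⁻¹) * k := by group
      rw [h2, h]; group
    · rintro rfl; group
  simp only [e]

theorem invBy_zero (K : Subgroup G) : InvBy K (0 : G → ℂ) := fun _ _ _ => rfl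

theorem invBy_add {K : Subgroup G} {a b : G → ℂ} (ha : InvBy K a) (hb : InvBy K b) :
    InvBy K (a + b) := fun k hk g => by
  simp only [Pi.add_apply, ha k hk g, hb k hk g]

theorem invBy_sub {K : Subgroup G} {a b : G → ℂ} (ha : InvBy K a) (hb : InvBy K b) :
    InvBy K (a - b) := fun k hk g => by
  simp only [Pi.sub_apply, ha k hk g, hb k hk g]

theorem invBy_smul {K : Subgroup G} (r : ℂ) {a : G → ℂ} (ha : InvBy K a) :
    InvBy K (r • a) := fun k hk g => by
  simp only [Pi.smul_apply, ha k hk g]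

theorem invBy_conv [Fintype G] {K : Subgroup G} {a b : G → ℂ} (ha : InvBy K a)
    (hb : InvBy K b) : InvBy K (conv a b) := by
  intro k hk g
  unfold conv
  rw [← Fintype.sum_equiv (MulAut.conj k).toEquiv (fun h => a h * b (h⁻¹ * g))
    (fun h => a h * b (h⁻¹ * (k * g * k⁻¹)))]
  intro h
  have e1 : (MulAut.conj k).toEquiv h = k * h * k⁻¹ := rfl
  rw [e1, ha k hk h]
  congr 1
  have e2 : (k * h * k⁻¹)⁻¹ * (k * g * k⁻¹) = k * (h⁻¹ * g) * k⁻¹ := by group
  rw [e2, hb k hk]

theorem invBy_ext0 {H K : Subgroup G} (hK : K ≤ H) {c : H → ℂ}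
    (hc : Cfsg.IsClassFunction H c) : InvBy K (ext0 H c) := by
  intro k hk g
  have hkH := hK hk
  by_cases hg : g ∈ H
  · have hg' : k * g * k⁻¹ ∈ H := H.mul_mem (H.mul_mem hkH hg) (H.inv_mem hkH)
    rw [ext0_of_mem H c hg, ext0_of_mem H c hg']
    exact hc ⟨g, hg⟩ ⟨k, hkH⟩
  · have hg' : k * g * k⁻¹ ∉ H := by
      intro h'
      apply hg
      have := H.mul_mem (H.mul_mem (H.inv_mem hkH) h') hkH
      simpa [mul_assoc] using this
    rw [ext0_of_not_mem H c hg, ext0_of_not_mem H c hg']

theorem isClassFunction_res {H : Subgroup G} {a : G → ℂ} (ha : InvBy H a) :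
    Cfsg.IsClassFunction H (res H a) := by
  intro g h
  show a ((h * g * h⁻¹ : H) : G) = a (g : G)
  have := ha (h : G) h.2 (g : G)
  simpa using this

theorem isClassFunction_ext0_top {a : G → ℂ} (K : Subgroup G) (ha : InvBy K a)
    (hK : ∀ g : G, g ∈ K) : Cfsg.IsClassFunction G a := fun g h => ha h (hK h) g

end Ext

section Brauer

variable {G : Type*} [Group G] [Fintype G] {M : Ideal Cfsg.AlgInt}

/-- the central character value of a class function with values in the local ideal lies in
the local ideal -/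
theorem memLocalIdeal_omegaF (hM : M.IsPrime) (χ : Cfsg.IrrCharacter G) {a : G → ℂ}
    (ha : LocIdl M a) (hcf : Cfsg.IsClassFunction G a) :
    Cfsg.MemLocalIdeal M (omegaF (χ : G → ℂ) a) := by
  classical
  unfold omegaF
  rw [Finset.sum_div]
  apply sum_class_invariant_mem (Cfsg.MemLocalIdeal M) (memLocalIdeal_zero hM)
    (fun x y hx hy => memLocalIdeal_add hM hx hy) (fun g => a g * (χ : G → ℂ) g / (χ : G → ℂ) 1)
  · intro x h
    simp only [hcf h x, irrCharacter_conj_eq]
  · intro h
    have e : ((Subgroup.centralizer ({h} : Set G)).index : ℂ) *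
        (a h * (χ : G → ℂ) h / (χ : G → ℂ) 1) = a h * Cfsg.centralChar (χ : G → ℂ) h := by
      unfold Cfsg.centralChar; ring
    rw [e]
    exact memLocalIdeal_mul_right hM (ha h) (memLocalRing_centralChar hM χ h)
  · intro x h _
    exact Finset.mem_univ _

/-- conjugation by an element of `P` fixes the centralizer of `P` pointwise -/
theorem conj_eq_of_mem_centralizer {P : Subgroup G} {u g : G} (hu : u ∈ P)
    (hg : g ∈ Subgroup.centralizer (P : Set G)) : u * g * u⁻¹ = g := by
  have h1 := Subgroup.mem_centralizer_iff.mp hg u hu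
  rw [h1]; group

theorem conj_mem_centralizer_iff' {P : Subgroup G} {u g : G} (hu : u ∈ P) :
    u * g * u⁻¹ ∈ Subgroup.centralizer (P : Set G) ↔ g ∈ Subgroup.centralizer (P : Set G) := by
  constructor
  · intro h
    have h1 := Subgroup.mem_centralizer_iff.mp h u hu
    have h2 : u * g * u⁻¹ = g := by
      have : u * g * u⁻¹ = u⁻¹ * (u * (u * g * u⁻¹)) := by group
      rw [this, h1]; group
    rwa [h2] at h
  · intro h
    rwa [conj_eq_of_mem_centralizer hu h]

/-- **Brauer homomorphism.**  For a `p`-subgroup `P`, truncation to the centralizer of `P` of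
coefficient functions with local-integer values which are invariant under conjugation by `P`
is multiplicative modulo the local ideal. -/
theorem locIdl_res_conv_sub {p : ℕ} [Fact p.Prime] (hM : Cfsg.IsPModular p M) (P : Subgroup G)
    (hP : IsPGroup p P) [Fintype (Subgroup.centralizer (P : Set G))] {a b : G → ℂ}
    (ha : LocInt M a) (hb : LocInt M b) (haP : InvBy P a) (hbP : InvBy P b) :
    LocIdl M (res (Subgroup.centralizer (P : Set G)) (conv a b) -
      conv (res (Subgroup.centralizer (P : Set G)) a) (res (Subgroup.centralizer (P : Set G)) b)) := by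
  classical
  have hMp := isPrime_of_isPModular hM
  intro x
  have e1 : conv (res (Subgroup.centralizer (P : Set G)) a)
      (res (Subgroup.centralizer (P : Set G)) b) x =
      ∑ g : G, if g ∈ Subgroup.centralizer (P : Set G) then a g * b (g⁻¹ * (x : G)) else 0 := by
    unfold conv
    rw [← Finset.sum_filter]
    exact (Finset.sum_subtype (Finset.univ.filter (· ∈ Subgroup.centralizer (P : Set G)))
      (by simp) (fun g : G => a g * b (g⁻¹ * (x : G)))).symm
  have e2 : (res (Subgroup.centralizer (P : Set G)) (conv a b) -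
      conv (res (Subgroup.centralizer (P : Set G)) a)
        (res (Subgroup.centralizer (P : Set G)) b)) x =
      ∑ g : G, if g ∈ Subgroup.centralizer (P : Set G) then 0 else a g * b (g⁻¹ * (x : G)) := by
    rw [Pi.sub_apply, e1, res_apply]
    unfold conv
    rw [← Finset.sum_sub_distrib]
    refine Finset.sum_congr rfl fun g _ => ?_
    by_cases hg : g ∈ Subgroup.centralizer (P : Set G)
    · rw [if_pos hg, if_pos hg, sub_self]
    · rw [if_neg hg, if_neg hg, sub_zero]
  rw [e2]
  apply sum_memLocalIdeal_of_pgroup_act hM hP (fun (u : P) (g : G) => (u : G) * g * (u : G)⁻¹)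
  · intro g; simp
  · intro u v g
    simp only [Subgroup.coe_mul, mul_inv_rev]
    group
  · intro g
    by_cases hg : g ∈ Subgroup.centralizer (P : Set G)
    · rw [if_pos hg]; exact memLocalRing_zero hMp
    · rw [if_neg hg]; exact memLocalRing_mul hMp (ha _) (hb _)
  · intro u g
    have hx : (u : G) * (x : G) * (u : G)⁻¹ = (x : G) := conj_eq_of_mem_centralizer u.2 x.2
    have e3 : ((u : G) * g * (u : G)⁻¹)⁻¹ * (x : G) = (u : G) * (g⁻¹ * (x : G)) * (u : G)⁻¹ := by
      conv_lhs => rw [← hx]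
      group
    by_cases hg : g ∈ Subgroup.centralizer (P : Set G)
    · rw [if_pos hg, if_pos ((conj_mem_centralizer_iff' u.2).mpr hg)]
    · rw [if_neg hg, if_neg (fun h => hg ((conj_mem_centralizer_iff' u.2).mp h)), e3,
        haP u u.2, hbP u u.2]
  · intro g hfix
    have hg : g ∈ Subgroup.centralizer (P : Set G) := by
      rw [Subgroup.mem_centralizer_iff]
      intro u hu
      have := hfix ⟨u, hu⟩
      simp only at this
      calc u * g = u * g * u⁻¹ * u := by group
        _ = g * u := by rw [this]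
    rw [if_pos hg]
    exact memLocalIdeal_zero hMp

theorem brauerOmega_eq_omegaF (P : Subgroup G) [Fintype (Subgroup.centralizer (P : Set G))]
    (β : G → ℂ) (ξ : Subgroup.centralizer (P : Set G) → ℂ) :
    Cfsg.brauerOmega P β ξ = omegaF ξ (res (Subgroup.centralizer (P : Set G)) β) := by
  unfold Cfsg.brauerOmega omegaF
  rw [finsum_eq_sum_of_fintype, Finset.sum_div]
  rfl

/-- admissible coefficient functions for the Brauer map at `P`: local-integer values,
invariant under conjugation by `P` and by the centralizer of `P` -/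
def BrAdm (M : Ideal Cfsg.AlgInt) (P : Subgroup G) (a : G → ℂ) : Prop :=
  LocInt M a ∧ InvBy P a ∧ InvBy (Subgroup.centralizer (P : Set G)) a

theorem brAdm_delta1 (hM : M.IsPrime) (P : Subgroup G) : BrAdm M P (delta1 : G → ℂ) :=
  ⟨locInt_delta1 hM, invBy_delta1 _, invBy_delta1 _⟩

theorem brAdm_zero (hM : M.IsPrime) (P : Subgroup G) : BrAdm M P (0 : G → ℂ) :=
  ⟨locInt_zero hM, invBy_zero _, invBy_zero _⟩

theorem brAdm_add (hM : M.IsPrime) {P : Subgroup G} {a b : G → ℂ} (ha : BrAdm M P a)
    (hb : BrAdm M P b) : BrAdm M P (a + b) :=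
  ⟨locInt_add hM ha.1 hb.1, invBy_add ha.2.1 hb.2.1, invBy_add ha.2.2 hb.2.2⟩

theorem brAdm_sub (hM : M.IsPrime) {P : Subgroup G} {a b : G → ℂ} (ha : BrAdm M P a)
    (hb : BrAdm M P b) : BrAdm M P (a - b) :=
  ⟨locInt_sub hM ha.1 hb.1, invBy_sub ha.2.1 hb.2.1, invBy_sub ha.2.2 hb.2.2⟩

theorem brAdm_smul (hM : M.IsPrime) {P : Subgroup G} {r : ℂ} (hr : Cfsg.MemLocalRing M r)
    {a : G → ℂ} (ha : BrAdm M P a) : BrAdm M P (r • a) :=
  ⟨locInt_smul hM hr ha.1, invBy_smul r ha.2.1, invBy_smul r ha.2.2⟩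

theorem brAdm_conv (hM : M.IsPrime) {P : Subgroup G} {a b : G → ℂ} (ha : BrAdm M P a)
    (hb : BrAdm M P b) : BrAdm M P (conv a b) :=
  ⟨locInt_conv hM ha.1 hb.1, invBy_conv ha.2.1 hb.2.1, invBy_conv ha.2.2 hb.2.2⟩

theorem brAdm_cpow (hM : M.IsPrime) {P : Subgroup G} {a : G → ℂ} (ha : BrAdm M P a) (n : ℕ) :
    BrAdm M P (cpow a n) := by
  induction n with
  | zero => exact brAdm_delta1 hM P
  | succ n ih => exact brAdm_conv hM ih ha

theorem brAdm_of_isClassFunction {P : Subgroup G} {a : G → ℂ} (ha : LocInt M a)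
    (hc : Cfsg.IsClassFunction G a) : BrAdm M P a :=
  ⟨ha, invBy_of_isClassFunction hc _, invBy_of_isClassFunction hc _⟩

theorem brAdm_ext0 (hM : M.IsPrime) {P H : Subgroup G}
    (hCH : Subgroup.centralizer (P : Set G) ≤ H) {c : H → ℂ} (hc : LocInt M c)
    (hcc : Cfsg.IsClassFunction H c) (hP : InvBy P (ext0 H c)) : BrAdm M P (ext0 H c) :=
  ⟨locInt_ext0 hM H hc, hP, invBy_ext0 hCH hcc⟩

theorem brauerOmega_add (P : Subgroup G) (a b : G → ℂ)
    (ξ : Subgroup.centralizer (P : Set G) → ℂ) :
    Cfsg.brauerOmega P (a + b) ξ = Cfsg.brauerOmega P a ξ + Cfsg.brauerOmega P b ξ := by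
  have := Fintype.ofFinite (Subgroup.centralizer (P : Set G))
  rw [brauerOmega_eq_omegaF, brauerOmega_eq_omegaF, brauerOmega_eq_omegaF, res_add, omegaF_add]

theorem brauerOmega_sub (P : Subgroup G) (a b : G → ℂ)
    (ξ : Subgroup.centralizer (P : Set G) → ℂ) :
    Cfsg.brauerOmega P (a - b) ξ = Cfsg.brauerOmega P a ξ - Cfsg.brauerOmega P b ξ := by
  have := Fintype.ofFinite (Subgroup.centralizer (P : Set G))
  rw [brauerOmega_eq_omegaF, brauerOmega_eq_omegaF, brauerOmega_eq_omegaF, res_sub, omegaF_sub]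

theorem brauerOmega_smul (P : Subgroup G) (r : ℂ) (a : G → ℂ)
    (ξ : Subgroup.centralizer (P : Set G) → ℂ) :
    Cfsg.brauerOmega P (r • a) ξ = r * Cfsg.brauerOmega P a ξ := by
  have := Fintype.ofFinite (Subgroup.centralizer (P : Set G))
  rw [brauerOmega_eq_omegaF, brauerOmega_eq_omegaF, res_smul, omegaF_smul']

theorem brauerOmega_zero (P : Subgroup G) (ξ : Subgroup.centralizer (P : Set G) → ℂ) :
    Cfsg.brauerOmega P (0 : G → ℂ) ξ = 0 := by
  have h := brauerOmega_sub P 0 0 ξ
  simpa using h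

theorem brauerOmega_delta1 (P : Subgroup G)
    (ξ : Cfsg.IrrCharacter (Subgroup.centralizer (P : Set G))) :
    Cfsg.brauerOmega P (delta1 : G → ℂ) (ξ : Subgroup.centralizer (P : Set G) → ℂ) = 1 := by
  have := Fintype.ofFinite (Subgroup.centralizer (P : Set G))
  rw [brauerOmega_eq_omegaF, res_delta1, omegaF_delta1]

theorem brauerOmega_congr (P : Subgroup G) {a b : G → ℂ}
    (h : ∀ x ∈ Subgroup.centralizer (P : Set G), a x = b x)
    (ξ : Subgroup.centralizer (P : Set G) → ℂ) :
    Cfsg.brauerOmega P a ξ = Cfsg.brauerOmega P b ξ := by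
  unfold Cfsg.brauerOmega
  refine finsum_congr fun x => ?_
  rw [h x x.2]

theorem memLocalRing_brauerOmega (hM : M.IsPrime) (P : Subgroup G)
    (ξ : Cfsg.IrrCharacter (Subgroup.centralizer (P : Set G))) {a : G → ℂ}
    (ha : BrAdm M P a) :
    Cfsg.MemLocalRing M (Cfsg.brauerOmega P a (ξ : Subgroup.centralizer (P : Set G) → ℂ)) := by
  have := Fintype.ofFinite (Subgroup.centralizer (P : Set G))
  rw [brauerOmega_eq_omegaF]
  exact memLocalRing_omegaF hM ξ (locInt_res _ ha.1) (isClassFunction_res ha.2.2)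

theorem memLocalIdeal_brauerOmega_of_locIdl (hM : M.IsPrime) (P : Subgroup G)
    (ξ : Cfsg.IrrCharacter (Subgroup.centralizer (P : Set G))) {a : G → ℂ}
    (ha : LocIdl M a) (haC : InvBy (Subgroup.centralizer (P : Set G)) a) :
    Cfsg.MemLocalIdeal M (Cfsg.brauerOmega P a (ξ : Subgroup.centralizer (P : Set G) → ℂ)) := by
  have := Fintype.ofFinite (Subgroup.centralizer (P : Set G))
  rw [brauerOmega_eq_omegaF]
  exact memLocalIdeal_omegaF hM ξ (locIdl_res _ ha) (isClassFunction_res haC)

/-- the Brauer functional is multiplicative modulo the local ideal on admissible functions -/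
theorem memLocalIdeal_brauerOmega_conv {p : ℕ} [Fact p.Prime] (hM : Cfsg.IsPModular p M)
    (P : Subgroup G) (hP : IsPGroup p P)
    (ξ : Cfsg.IrrCharacter (Subgroup.centralizer (P : Set G))) {a b : G → ℂ}
    (ha : BrAdm M P a) (hb : BrAdm M P b) :
    Cfsg.MemLocalIdeal M
      (Cfsg.brauerOmega P (conv a b) (ξ : Subgroup.centralizer (P : Set G) → ℂ) -
        Cfsg.brauerOmega P a (ξ : Subgroup.centralizer (P : Set G) → ℂ) *
          Cfsg.brauerOmega P b (ξ : Subgroup.centralizer (P : Set G) → ℂ)) := by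
  have hMp := isPrime_of_isPModular hM
  have := Fintype.ofFinite (Subgroup.centralizer (P : Set G))
  rw [brauerOmega_eq_omegaF, brauerOmega_eq_omegaF, brauerOmega_eq_omegaF,
    ← omegaF_conv ξ _ (isClassFunction_res hb.2.2), ← omegaF_sub]
  apply memLocalIdeal_omegaF hMp ξ (locIdl_res_conv_sub hM P hP ha.1 hb.1 ha.2.1 hb.2.1)
  exact isClassFunction_sub (isClassFunction_res (invBy_conv ha.2.2 hb.2.2))
    (conv_isClassFunction (isClassFunction_res ha.2.2) (isClassFunction_res hb.2.2))

/-- the Brauer functional on a power -/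
theorem memLocalIdeal_brauerOmega_cpow {p : ℕ} [Fact p.Prime] (hM : Cfsg.IsPModular p M)
    (P : Subgroup G) (hP : IsPGroup p P)
    (ξ : Cfsg.IrrCharacter (Subgroup.centralizer (P : Set G))) {a : G → ℂ}
    (ha : BrAdm M P a) (n : ℕ) :
    Cfsg.MemLocalIdeal M
      (Cfsg.brauerOmega P (cpow a n) (ξ : Subgroup.centralizer (P : Set G) → ℂ) -
        Cfsg.brauerOmega P a (ξ : Subgroup.centralizer (P : Set G) → ℂ) ^ n) := by
  have hMp := isPrime_of_isPModular hM
  induction n with
  | zero =>
    rw [cpow_zero, brauerOmega_delta1, pow_zero, sub_self]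
    exact memLocalIdeal_zero hMp
  | succ n ih =>
    rw [cpow_succ]
    have h1 := memLocalIdeal_brauerOmega_conv hM P hP ξ (brAdm_cpow hMp ha n) ha
    have h2 := memLocalIdeal_mul_right hMp ih (memLocalRing_brauerOmega hMp P ξ ha)
    have h3 := memLocalIdeal_add hMp h1 h2
    have e : Cfsg.brauerOmega P (conv (cpow a n) a) (ξ : Subgroup.centralizer (P : Set G) → ℂ) -
        Cfsg.brauerOmega P (cpow a n) (ξ : Subgroup.centralizer (P : Set G) → ℂ) *
          Cfsg.brauerOmega P a (ξ : Subgroup.centralizer (P : Set G) → ℂ) +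
        (Cfsg.brauerOmega P (cpow a n) (ξ : Subgroup.centralizer (P : Set G) → ℂ) -
          Cfsg.brauerOmega P a (ξ : Subgroup.centralizer (P : Set G) → ℂ) ^ n) *
          Cfsg.brauerOmega P a (ξ : Subgroup.centralizer (P : Set G) → ℂ) =
        Cfsg.brauerOmega P (conv (cpow a n) a) (ξ : Subgroup.centralizer (P : Set G) → ℂ) -
          Cfsg.brauerOmega P a (ξ : Subgroup.centralizer (P : Set G) → ℂ) ^ (n + 1) := by
      ring
    rw [e] at h3
    exact h3

/-- characters in the same block of the centralizer give congruent Brauer functionals -/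
theorem memLocalIdeal_brauerOmega_sub_of_sameBlock (hM : M.IsPrime) (P : Subgroup G)
    {ξ ξ' : Cfsg.IrrCharacter (Subgroup.centralizer (P : Set G))}
    (h : Cfsg.SameBlock M (ξ : Subgroup.centralizer (P : Set G) → ℂ)
      (ξ' : Subgroup.centralizer (P : Set G) → ℂ)) {a : G → ℂ} (ha : BrAdm M P a) :
    Cfsg.MemLocalIdeal M
      (Cfsg.brauerOmega P a (ξ : Subgroup.centralizer (P : Set G) → ℂ) -
        Cfsg.brauerOmega P a (ξ' : Subgroup.centralizer (P : Set G) → ℂ)) := by
  have := Fintype.ofFinite (Subgroup.centralizer (P : Set G))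
  rw [brauerOmega_eq_omegaF, brauerOmega_eq_omegaF]
  exact memLocalIdeal_omegaF_sub hM h (locInt_res _ ha.1) (isClassFunction_res ha.2.2)

/-- **Evaluation lemma.**  Let `H` contain the centralizer of the `p`-subgroup `P`, and let `A`
be a set of irreducible characters of `H` whose idempotent has local-integer values, is
`P`-invariant and is not killed by the Brauer functional at `ξ`.  If a `P`-invariant class
function `z` of `H` with local-integer values has all its central character values on `A` in the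
local ideal, then the Brauer functional of `z` lies in the local ideal. -/
theorem brauer_eval {p : ℕ} [Fact p.Prime] (hM : Cfsg.IsPModular p M) (P : Subgroup G)
    (hP : IsPGroup p P) (ξ : Cfsg.IrrCharacter (Subgroup.centralizer (P : Set G)))
    (H : Subgroup G) [Fintype H] (hCH : Subgroup.centralizer (P : Set G) ≤ H)
    (A : Set (Cfsg.IrrCharacter H)) (hA : LocInt M (Cfsg.blockCoeff A))
    (hAP : InvBy P (ext0 H (Cfsg.blockCoeff A)))
    (hA1 : ¬ Cfsg.MemLocalIdeal M (Cfsg.brauerOmega P (ext0 H (Cfsg.blockCoeff A))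
      (ξ : Subgroup.centralizer (P : Set G) → ℂ)))
    {z : H → ℂ} (hz : LocInt M z) (hzc : Cfsg.IsClassFunction H z) (hzP : InvBy P (ext0 H z))
    (h : ∀ ζ ∈ A, Cfsg.MemLocalIdeal M (omegaF (ζ : H → ℂ) z)) :
    Cfsg.MemLocalIdeal M
      (Cfsg.brauerOmega P (ext0 H z) (ξ : Subgroup.centralizer (P : Set G) → ℂ)) := by
  have hMp := isPrime_of_isPModular hM
  have hAc := blockCoeff_isClassFunction A
  set d : H → ℂ := conv z (Cfsg.blockCoeff A) with hd
  have hdc : Cfsg.IsClassFunction H d := conv_isClassFunction hzc hAc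
  have hdR : LocInt M d := locInt_conv hMp hz hA
  have hdω : ∀ ζ : Cfsg.IrrCharacter H, Cfsg.MemLocalIdeal M (omegaF (ζ : H → ℂ) d) := by
    intro ζ
    rw [hd, omegaF_conv ζ z hAc, omegaF_blockCoeff_set]
    by_cases hζ : ζ ∈ A
    · rw [if_pos hζ, mul_one]; exact h ζ hζ
    · rw [if_neg hζ, mul_zero]; exact memLocalIdeal_zero hMp
  obtain ⟨N, hN⟩ := exists_cpow_locIdl hMp hdc hdR hdω
  have hzA : BrAdm M P (ext0 H z) := brAdm_ext0 hMp hCH hz hzc hzP
  have hAA : BrAdm M P (ext0 H (Cfsg.blockCoeff A)) := brAdm_ext0 hMp hCH hA hAc hAP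
  have hDA : BrAdm M P (ext0 H d) := by
    rw [hd, ← conv_ext0]
    exact brAdm_conv hMp hzA hAA
  have h1 : Cfsg.MemLocalIdeal M (Cfsg.brauerOmega P (cpow (ext0 H d) N)
      (ξ : Subgroup.centralizer (P : Set G) → ℂ)) := by
    rw [← ext0_cpow]
    exact memLocalIdeal_brauerOmega_of_locIdl hMp P ξ (locIdl_ext0 hMp H hN)
      (invBy_ext0 hCH (isClassFunction_cpow hdc N))
  have h2 := memLocalIdeal_brauerOmega_cpow hM P hP ξ hDA N
  have h3 : Cfsg.MemLocalIdeal M (Cfsg.brauerOmega P (ext0 H d)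
      (ξ : Subgroup.centralizer (P : Set G) → ℂ) ^ N) := by
    have := memLocalIdeal_sub hMp h1 h2
    rwa [sub_sub_cancel] at this
  have h4 := memLocalIdeal_of_pow hMp (memLocalRing_brauerOmega hMp P ξ hDA) h3
  have h5 := memLocalIdeal_brauerOmega_conv hM P hP ξ hzA hAA
  rw [conv_ext0, ← hd] at h5
  have h6 : Cfsg.MemLocalIdeal M
      (Cfsg.brauerOmega P (ext0 H z) (ξ : Subgroup.centralizer (P : Set G) → ℂ) *
        Cfsg.brauerOmega P (ext0 H (Cfsg.blockCoeff A))
          (ξ : Subgroup.centralizer (P : Set G) → ℂ)) := by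
    have := memLocalIdeal_sub hMp h4 h5
    rwa [sub_sub_cancel] at this
  rcases memLocalIdeal_or_of_mul hMp (memLocalRing_brauerOmega hMp P ξ hzA)
    (memLocalRing_brauerOmega hMp P ξ hAA) h6 with h7 | h7
  · exact h7
  · exact absurd h7 hA1

theorem brauerOmega_finset_sum (P : Subgroup G) {ι : Type*} (s : Finset ι) (a : ι → G → ℂ)
    (ξ : Subgroup.centralizer (P : Set G) → ℂ) :
    Cfsg.brauerOmega P (∑ i ∈ s, a i) ξ = ∑ i ∈ s, Cfsg.brauerOmega P (a i) ξ := by
  classical
  induction s using Finset.induction_on with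
  | empty => simp [brauerOmega_zero]
  | insert i s hi ih => rw [Finset.sum_insert hi, Finset.sum_insert hi, brauerOmega_add, ih]

/-- an idempotent modulo the local ideal which is not in the local ideal is congruent to `1` -/
theorem memLocalIdeal_sub_one_of_idem (hM : M.IsPrime) {t : ℂ} (ht : Cfsg.MemLocalRing M t)
    (h : Cfsg.MemLocalIdeal M (t - t * t)) (hn : ¬ Cfsg.MemLocalIdeal M t) :
    Cfsg.MemLocalIdeal M (t - 1) := by
  have e : t - t * t = t * (1 - t) := by ring
  rw [e] at h
  rcases memLocalIdeal_or_of_mul hM ht (memLocalRing_sub hM (memLocalRing_one hM) ht) h with h1 | h1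
  · exact absurd h1 hn
  · have := memLocalIdeal_neg h1
    rwa [neg_sub] at this

theorem not_memLocalIdeal_of_sub_one (hM : M.IsPrime) {t : ℂ}
    (h : Cfsg.MemLocalIdeal M (t - 1)) : ¬ Cfsg.MemLocalIdeal M t := by
  intro ht
  have := memLocalIdeal_sub hM ht h
  rw [sub_sub_cancel] at this
  exact not_memLocalIdeal_one hM this

end Brauer

section Blocks

variable {G : Type*} [Group G] [Fintype G] {M : Ideal Cfsg.AlgInt}

theorem omegaF_finset_sum (χ : G → ℂ) {ι : Type*} (s : Finset ι) (a : ι → G → ℂ) :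
    omegaF χ (∑ i ∈ s, a i) = ∑ i ∈ s, omegaF χ (a i) := by
  classical
  induction s using Finset.induction_on with
  | empty => simp [omegaF_zero]
  | insert i s hi ih => rw [Finset.sum_insert hi, Finset.sum_insert hi, omegaF_add, ih]

theorem isClassFunction_finset_sum {ι : Type*} (s : Finset ι) (a : ι → G → ℂ)
    (h : ∀ i ∈ s, Cfsg.IsClassFunction G (a i)) : Cfsg.IsClassFunction G (∑ i ∈ s, a i) := by
  intro g x
  simp only [Finset.sum_apply]
  exact Finset.sum_congr rfl fun i hi => h i hi g x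

theorem conv_blockCoeff (A B : Set (Cfsg.IrrCharacter G)) :
    conv (Cfsg.blockCoeff A) (Cfsg.blockCoeff B) = Cfsg.blockCoeff (A ∩ B) := by
  classical
  have hA := blockCoeff_isClassFunction A
  have hB := blockCoeff_isClassFunction B
  apply eq_of_omegaF_eq (conv_isClassFunction hA hB) (blockCoeff_isClassFunction _)
  intro χ
  rw [omegaF_conv χ _ hB, omegaF_blockCoeff_set, omegaF_blockCoeff_set, omegaF_blockCoeff_set]
  by_cases h1 : χ ∈ A <;> by_cases h2 : χ ∈ B <;> simp [h1, h2]

theorem blockCoeff_empty : Cfsg.blockCoeff (∅ : Set (Cfsg.IrrCharacter G)) = 0 := by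
  funext g
  unfold Cfsg.blockCoeff
  simp

theorem conv_blockCoeff_of_inter_eq_empty {A B : Set (Cfsg.IrrCharacter G)} (h : A ∩ B = ∅) :
    conv (Cfsg.blockCoeff A) (Cfsg.blockCoeff B) = 0 := by
  rw [conv_blockCoeff, h, blockCoeff_empty]

theorem isPBlock_inter_eq_empty (hM : M.IsPrime) {A B : Set (Cfsg.IrrCharacter G)}
    (hA : Cfsg.IsPBlock M A) (hB : Cfsg.IsPBlock M B) (h : A ≠ B) : A ∩ B = ∅ := by
  by_contra hne
  obtain ⟨χ, hχA, hχB⟩ := Set.nonempty_iff_ne_empty.mpr hne
  exact h ((IsPBlock.eq_blockOf hM hA hχA).trans (IsPBlock.eq_blockOf hM hB hχB).symm)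

open scoped Classical in
/-- the block idempotents sum to the identity -/
theorem sum_isPBlock_blockCoeff (hM : M.IsPrime) [Fintype (Set (Cfsg.IrrCharacter G))] :
    ∑ A : Set (Cfsg.IrrCharacter G),
      (if Cfsg.IsPBlock M A then Cfsg.blockCoeff A else 0) = (delta1 : G → ℂ) := by
  classical
  apply eq_of_omegaF_eq
  · apply isClassFunction_finset_sum
    intro A _
    by_cases hA : Cfsg.IsPBlock M A
    · rw [if_pos hA]; exact blockCoeff_isClassFunction A
    · rw [if_neg hA]; exact isClassFunction_zero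
  · exact isClassFunction_delta1
  · intro χ
    rw [omegaF_finset_sum, omegaF_delta1, Finset.sum_eq_single (Cfsg.blockOf M (χ : G → ℂ))]
    · rw [if_pos (isPBlock_blockOf χ), omegaF_blockCoeff_set, if_pos (mem_blockOf_self hM χ)]
    · intro A _ hA
      by_cases hA' : Cfsg.IsPBlock M A
      · rw [if_pos hA', omegaF_blockCoeff_set, if_neg]
        intro hχ
        exact hA (IsPBlock.eq_blockOf hM hA' hχ)
      · rw [if_neg hA', omegaF_zero]
    · intro h
      exact absurd (Finset.mem_univ _) h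

/-- **A Brauer pair determines a block.**  For a `p`-subgroup `P` and an irreducible character
`ξ` of its centralizer there is exactly one block of `G` whose idempotent is not killed by the
Brauer functional at `ξ`, and on it the functional is congruent to `1`. -/
theorem exists_block_of_brauerOmega {p : ℕ} [Fact p.Prime] (hM : Cfsg.IsPModular p M)
    (P : Subgroup G) (hP : IsPGroup p P)
    (ξ : Cfsg.IrrCharacter (Subgroup.centralizer (P : Set G))) :
    ∃ A : Set (Cfsg.IrrCharacter G), Cfsg.IsPBlock M A ∧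
      Cfsg.MemLocalIdeal M (Cfsg.brauerOmega P (Cfsg.blockCoeff A)
        (ξ : Subgroup.centralizer (P : Set G) → ℂ) - 1) ∧
      ∀ B : Set (Cfsg.IrrCharacter G), Cfsg.IsPBlock M B →
        ¬ Cfsg.MemLocalIdeal M (Cfsg.brauerOmega P (Cfsg.blockCoeff B)
          (ξ : Subgroup.centralizer (P : Set G) → ℂ)) → B = A := by
  classical
  have hMp := isPrime_of_isPModular hM
  have := irr_finite G
  have := Fintype.ofFinite (Set (Cfsg.IrrCharacter G))
  have hadm : ∀ A : Set (Cfsg.IrrCharacter G), Cfsg.IsPBlock M A →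
      BrAdm M P (Cfsg.blockCoeff A) := fun A hA =>
    brAdm_of_isClassFunction (fun g => memLocalRing_blockCoeff hMp A hA g)
      (blockCoeff_isClassFunction A)
  have hex : ∃ A : Set (Cfsg.IrrCharacter G), Cfsg.IsPBlock M A ∧
      ¬ Cfsg.MemLocalIdeal M (Cfsg.brauerOmega P (Cfsg.blockCoeff A)
        (ξ : Subgroup.centralizer (P : Set G) → ℂ)) := by
    by_contra hcon
    push Not at hcon
    have h1 := brauerOmega_finset_sum P (Finset.univ : Finset (Set (Cfsg.IrrCharacter G)))
      (fun A => if Cfsg.IsPBlock M A then Cfsg.blockCoeff A else 0)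
      (ξ : Subgroup.centralizer (P : Set G) → ℂ)
    rw [sum_isPBlock_blockCoeff (G := G) hMp, brauerOmega_delta1] at h1
    apply not_memLocalIdeal_one hMp
    rw [h1]
    apply memLocalIdeal_sum hMp
    intro A _
    by_cases hA : Cfsg.IsPBlock M A
    · rw [if_pos hA]; exact hcon A hA
    · rw [if_neg hA, brauerOmega_zero]; exact memLocalIdeal_zero hMp
  obtain ⟨A, hA, hAn⟩ := hex
  have hA1 : Cfsg.MemLocalIdeal M (Cfsg.brauerOmega P (Cfsg.blockCoeff A)
      (ξ : Subgroup.centralizer (P : Set G) → ℂ) - 1) := by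
    apply memLocalIdeal_sub_one_of_idem hMp (memLocalRing_brauerOmega hMp P ξ (hadm A hA)) _ hAn
    have h2 := memLocalIdeal_brauerOmega_conv hM P hP ξ (hadm A hA) (hadm A hA)
    rw [conv_blockCoeff, Set.inter_self] at h2
    exact h2
  refine ⟨A, hA, hA1, ?_⟩
  intro B hB hBn
  by_contra hne
  have h2 := memLocalIdeal_brauerOmega_conv hM P hP ξ (hadm A hA) (hadm B hB)
  rw [conv_blockCoeff_of_inter_eq_empty (isPBlock_inter_eq_empty hMp hA hB (Ne.symm hne)),
    brauerOmega_zero, zero_sub] at h2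
  have h3 := memLocalIdeal_neg h2
  rw [neg_neg] at h3
  rcases memLocalIdeal_or_of_mul hMp (memLocalRing_brauerOmega hMp P ξ (hadm A hA))
    (memLocalRing_brauerOmega hMp P ξ (hadm B hB)) h3 with h4 | h4
  · exact hAn h4
  · exact hBn h4

end Blocks

end Cfsg.Agent.Lib.Helper77
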