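import Mathlib
import Cfsg.Prelude.Def_Blocks
import Cfsg.Prelude.Def_BlockLocal
import Cfsg.Prelude.Def_BrauerPairs
import Cfsg.Agent.Lib.Helper77.BrauerMap
import Cfsg.Agent.Lib.Helper80.CharKer

/-!
# Transport of irreducible characters and blocks along group isomorphisms

`mapIrr α χ` is the irreducible character `χ ∘ α⁻¹` of the target of an isomorphism `α`,
`mapSet α A` the image of a set of irreducible characters.  Blocks go to blocks and block
idempotents to block idempotents.  The special case of conjugation by an element normalizing a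
subgroup gives the action on the blocks of that subgroup, and the link with
`Cfsg.StabilizesBlock`.
-/

set_option autoImplicit false
set_option linter.unusedSectionVars false

namespace Cfsg.Agent.Lib.Helper77

open Cfsg Cfsg.Agent.Lib.Helper16 Cfsg.Agent.Lib.Helper81
open scoped ComplexConjugate

section Map

variable {H H' H'' : Type*} [Group H] [Group H'] [Group H''] {M : Ideal Cfsg.AlgInt}

/-- transport of an irreducible character along a group isomorphism -/
noncomputable def mapIrr (α : H ≃* H') (χ : Cfsg.IrrCharacter H) : Cfsg.IrrCharacter H' :=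
  ⟨fun h' => (χ : H → ℂ) (α.symm h'),
    Cfsg.Agent.Lib.Helper80.isIrrCharacter_comp_mulEquiv α.symm χ.2⟩

theorem mapIrr_apply (α : H ≃* H') (χ : Cfsg.IrrCharacter H) (h' : H') :
    (mapIrr α χ : H' → ℂ) h' = (χ : H → ℂ) (α.symm h') := rfl

theorem mapIrr_apply_apply (α : H ≃* H') (χ : Cfsg.IrrCharacter H) (h : H) :
    (mapIrr α χ : H' → ℂ) (α h) = (χ : H → ℂ) h := by
  rw [mapIrr_apply, α.symm_apply_apply]

theorem mapIrr_one (α : H ≃* H') (χ : Cfsg.IrrCharacter H) :
    (mapIrr α χ : H' → ℂ) 1 = (χ : H → ℂ) 1 := by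
  rw [mapIrr_apply, map_one]

theorem mapIrr_symm_mapIrr (α : H ≃* H') (χ : Cfsg.IrrCharacter H) :
    mapIrr α.symm (mapIrr α χ) = χ := by
  apply Subtype.ext
  funext h
  simp [mapIrr_apply]

theorem mapIrr_mapIrr_symm (α : H ≃* H') (χ' : Cfsg.IrrCharacter H') :
    mapIrr α (mapIrr α.symm χ') = χ' := by
  apply Subtype.ext
  funext h
  simp [mapIrr_apply]

theorem mapIrr_injective (α : H ≃* H') : Function.Injective (mapIrr α) := by
  intro χ ψ h
  rw [← mapIrr_symm_mapIrr α χ, ← mapIrr_symm_mapIrr α ψ, h]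

theorem mapIrr_trans (α : H ≃* H') (β : H' ≃* H'') (χ : Cfsg.IrrCharacter H) :
    mapIrr (α.trans β) χ = mapIrr β (mapIrr α χ) := by
  apply Subtype.ext
  funext h
  simp [mapIrr_apply]

theorem mapIrr_refl (χ : Cfsg.IrrCharacter H) : mapIrr (MulEquiv.refl H) χ = χ := by
  apply Subtype.ext
  funext h
  simp [mapIrr_apply]

theorem mapIrr_congr {α β : H ≃* H'} (h : ∀ x, α x = β x) (χ : Cfsg.IrrCharacter H) :
    mapIrr α χ = mapIrr β χ := by
  have : α = β := MulEquiv.ext h
  rw [this]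

theorem index_centralizer_map (α : H ≃* H') (h : H) :
    (Subgroup.centralizer ({α h} : Set H')).index = (Subgroup.centralizer ({h} : Set H)).index := by
  have e : Subgroup.centralizer ({h} : Set H) =
      (Subgroup.centralizer ({α h} : Set H')).comap α.toMonoidHom := by
    ext x
    rw [Subgroup.mem_comap, Subgroup.mem_centralizer_iff, Subgroup.mem_centralizer_iff]
    constructor
    · intro hx y hy
      rw [Set.mem_singleton_iff] at hy
      subst hy
      have := hx h (Set.mem_singleton h)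
      show α h * α x = α x * α h
      rw [← map_mul, ← map_mul, this]
    · intro hx y hy
      rw [Set.mem_singleton_iff] at hy
      subst hy
      have := hx (α y) (Set.mem_singleton _)
      have h2 : α y * α x = α x * α y := this
      rw [← map_mul, ← map_mul] at h2
      exact α.injective h2
  rw [e, Subgroup.index_comap_of_surjective _ α.surjective]

theorem centralChar_mapIrr (α : H ≃* H') (χ : Cfsg.IrrCharacter H) (h : H) :
    Cfsg.centralChar (mapIrr α χ : H' → ℂ) (α h) = Cfsg.centralChar (χ : H → ℂ) h := by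
  unfold Cfsg.centralChar
  rw [index_centralizer_map, mapIrr_apply_apply, mapIrr_one]

theorem sameBlock_mapIrr_iff (α : H ≃* H') (χ ψ : Cfsg.IrrCharacter H) :
    Cfsg.SameBlock M (mapIrr α χ : H' → ℂ) (mapIrr α ψ : H' → ℂ) ↔
      Cfsg.SameBlock M (χ : H → ℂ) (ψ : H → ℂ) := by
  constructor
  · intro h g
    have := h (α g)
    rwa [centralChar_mapIrr, centralChar_mapIrr] at this
  · intro h g'
    have := h (α.symm g')
    rw [← centralChar_mapIrr α χ, ← centralChar_mapIrr α ψ, α.apply_symm_apply] at this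
    exact this

/-- transport of a set of irreducible characters along a group isomorphism -/
def mapSet (α : H ≃* H') (A : Set (Cfsg.IrrCharacter H)) : Set (Cfsg.IrrCharacter H') :=
  mapIrr α '' A

theorem mem_mapSet_iff (α : H ≃* H') (A : Set (Cfsg.IrrCharacter H))
    (χ' : Cfsg.IrrCharacter H') : χ' ∈ mapSet α A ↔ mapIrr α.symm χ' ∈ A := by
  constructor
  · rintro ⟨χ, hχ, rfl⟩
    rwa [mapIrr_symm_mapIrr]
  · intro h
    exact ⟨mapIrr α.symm χ', h, mapIrr_mapIrr_symm α χ'⟩

theorem mapIrr_mem_mapSet_iff (α : H ≃* H') (A : Set (Cfsg.IrrCharacter H))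
    (χ : Cfsg.IrrCharacter H) : mapIrr α χ ∈ mapSet α A ↔ χ ∈ A := by
  rw [mem_mapSet_iff, mapIrr_symm_mapIrr]

theorem mapSet_symm_mapSet (α : H ≃* H') (A : Set (Cfsg.IrrCharacter H)) :
    mapSet α.symm (mapSet α A) = A := by
  ext χ
  rw [mem_mapSet_iff, mem_mapSet_iff]
  have : mapIrr α.symm.symm χ = mapIrr α χ := rfl
  rw [this, mapIrr_symm_mapIrr]

theorem mapSet_mapSet_symm (α : H ≃* H') (A : Set (Cfsg.IrrCharacter H')) :
    mapSet α (mapSet α.symm A) = A := by
  ext χ
  rw [mem_mapSet_iff, mem_mapSet_iff]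
  have : mapIrr α.symm.symm (mapIrr α.symm χ) = mapIrr α (mapIrr α.symm χ) := rfl
  rw [this, mapIrr_mapIrr_symm]

theorem mapSet_trans (α : H ≃* H') (β : H' ≃* H'') (A : Set (Cfsg.IrrCharacter H)) :
    mapSet (α.trans β) A = mapSet β (mapSet α A) := by
  unfold mapSet
  rw [Set.image_image]
  exact Set.image_congr fun χ _ => mapIrr_trans α β χ

theorem mapSet_refl (A : Set (Cfsg.IrrCharacter H)) : mapSet (MulEquiv.refl H) A = A := by
  unfold mapSet
  have : mapIrr (MulEquiv.refl H) = id := funext mapIrr_refl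
  rw [this, Set.image_id]

theorem mapSet_congr {α β : H ≃* H'} (h : ∀ x, α x = β x) (A : Set (Cfsg.IrrCharacter H)) :
    mapSet α A = mapSet β A := by
  have : α = β := MulEquiv.ext h
  rw [this]

theorem mapSet_mono (α : H ≃* H') {A B : Set (Cfsg.IrrCharacter H)} (h : A ⊆ B) :
    mapSet α A ⊆ mapSet α B := Set.image_mono h

theorem mapSet_blockOf (_hM : M.IsPrime) (α : H ≃* H') (χ : Cfsg.IrrCharacter H) :
    mapSet α (Cfsg.blockOf M (χ : H → ℂ)) = Cfsg.blockOf M (mapIrr α χ : H' → ℂ) := by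
  ext ψ
  rw [mem_mapSet_iff, mem_blockOf_iff, mem_blockOf_iff]
  conv_rhs => rw [← mapIrr_mapIrr_symm α ψ]
  rw [sameBlock_mapIrr_iff]

theorem isPBlock_mapSet (hM : M.IsPrime) (α : H ≃* H') {A : Set (Cfsg.IrrCharacter H)}
    (hA : Cfsg.IsPBlock M A) : Cfsg.IsPBlock M (mapSet α A) := by
  obtain ⟨χ, rfl⟩ := hA
  exact ⟨mapIrr α χ, mapSet_blockOf hM α χ⟩

theorem isPBlock_mapSet_iff (hM : M.IsPrime) (α : H ≃* H') (A : Set (Cfsg.IrrCharacter H)) :
    Cfsg.IsPBlock M (mapSet α A) ↔ Cfsg.IsPBlock M A := by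
  constructor
  · intro h
    have := isPBlock_mapSet hM α.symm h
    rwa [mapSet_symm_mapSet] at this
  · exact isPBlock_mapSet hM α

theorem blockCoeff_mapSet (α : H ≃* H') (A : Set (Cfsg.IrrCharacter H)) (h : H) :
    Cfsg.blockCoeff (mapSet α A) (α h) = Cfsg.blockCoeff A h := by
  unfold Cfsg.blockCoeff mapSet
  rw [finsum_mem_image (fun x _ y _ hxy => mapIrr_injective α hxy), Nat.card_congr α.toEquiv.symm]
  congr 1
  refine finsum_congr fun χ => ?_
  refine finsum_congr fun _ => ?_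
  rw [mapIrr_one, mapIrr_apply_apply]

theorem blockCoeff_mapSet' (α : H ≃* H') (A : Set (Cfsg.IrrCharacter H)) (h' : H') :
    Cfsg.blockCoeff (mapSet α A) h' = Cfsg.blockCoeff A (α.symm h') := by
  rw [← blockCoeff_mapSet α A (α.symm h'), α.apply_symm_apply]

end Map

section Conj

variable {G : Type*} [Group G] {M : Ideal Cfsg.AlgInt}

/-- conjugation by an element normalizing `K`, as an automorphism of `K` -/
def conjAut (K : Subgroup G) (u : G) (hu : u ∈ Subgroup.normalizer (K : Set G)) : K ≃* K where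
  toFun k := ⟨u * k * u⁻¹, (Subgroup.mem_normalizer_iff.mp hu k).mp k.2⟩
  invFun k := ⟨u⁻¹ * k * u, (Subgroup.mem_normalizer_iff''.mp hu k).mp k.2⟩
  left_inv k := Subtype.ext (by simp [mul_assoc])
  right_inv k := Subtype.ext (by simp [mul_assoc])
  map_mul' a b := Subtype.ext (by simp [mul_assoc])

theorem conjAut_apply_coe (K : Subgroup G) (u : G) (hu : u ∈ Subgroup.normalizer (K : Set G))
    (k : K) : ((conjAut K u hu k : K) : G) = u * k * u⁻¹ := rfl

theorem conjAut_symm_apply_coe (K : Subgroup G) (u : G)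
    (hu : u ∈ Subgroup.normalizer (K : Set G)) (k : K) :
    (((conjAut K u hu).symm k : K) : G) = u⁻¹ * k * u := rfl

/-- the conjugate of a set of irreducible characters of `K` by a normalizing element -/
def conjSet (K : Subgroup G) (u : G) (hu : u ∈ Subgroup.normalizer (K : Set G))
    (A : Set (Cfsg.IrrCharacter K)) : Set (Cfsg.IrrCharacter K) := mapSet (conjAut K u hu) A

theorem isConjCharOf_iff (K : Subgroup G) (u : G) (hu : u ∈ Subgroup.normalizer (K : Set G))
    (χ χ' : Cfsg.IrrCharacter K) :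
    Cfsg.IsConjCharOf K u (χ : K → ℂ) (χ' : K → ℂ) ↔ χ' = mapIrr (conjAut K u hu) χ := by
  constructor
  · intro h
    apply Subtype.ext
    funext k'
    rw [mapIrr_apply]
    exact h ((conjAut K u hu).symm k') k' (by rw [conjAut_symm_apply_coe]; group)
  · rintro rfl k k' hk
    rw [mapIrr_apply]
    have e : (conjAut K u hu).symm k' = k := by
      apply Subtype.ext
      rw [conjAut_symm_apply_coe, hk]; group
    rw [e]

theorem stabilizesBlock_iff (K : Subgroup G) (A : Set (Cfsg.IrrCharacter K)) (u : G)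
    (hu : u ∈ Subgroup.normalizer (K : Set G)) :
    Cfsg.StabilizesBlock K A u ↔ conjSet K u hu A ⊆ A := by
  constructor
  · rintro ⟨_, h⟩ χ' ⟨χ, hχ, rfl⟩
    obtain ⟨χ'', hχ'', hc⟩ := h χ hχ
    rw [isConjCharOf_iff K u hu] at hc
    rw [← hc]; exact hχ''
  · intro h
    exact ⟨hu, fun χ hχ => ⟨mapIrr (conjAut K u hu) χ, h ⟨χ, hχ, rfl⟩,
      (isConjCharOf_iff K u hu _ _).mpr rfl⟩⟩

theorem conjSet_one (K : Subgroup G) (h1 : (1 : G) ∈ Subgroup.normalizer (K : Set G))
    (A : Set (Cfsg.IrrCharacter K)) : conjSet K 1 h1 A = A := by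
  unfold conjSet
  rw [mapSet_congr (β := MulEquiv.refl K) (fun x => Subtype.ext (by simp [conjAut_apply_coe])),
    mapSet_refl]

theorem conjSet_mul (K : Subgroup G) (u v : G) (hu : u ∈ Subgroup.normalizer (K : Set G))
    (hv : v ∈ Subgroup.normalizer (K : Set G)) (huv : u * v ∈ Subgroup.normalizer (K : Set G))
    (A : Set (Cfsg.IrrCharacter K)) :
    conjSet K (u * v) huv A = conjSet K u hu (conjSet K v hv A) := by
  unfold conjSet
  rw [← mapSet_trans]
  apply mapSet_congr
  intro x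
  apply Subtype.ext
  simp [conjAut_apply_coe, mul_assoc]

theorem conjSet_conjSet_inv (K : Subgroup G) (u : G) (hu : u ∈ Subgroup.normalizer (K : Set G))
    (hu' : u⁻¹ ∈ Subgroup.normalizer (K : Set G)) (A : Set (Cfsg.IrrCharacter K)) :
    conjSet K u hu (conjSet K u⁻¹ hu' A) = A := by
  have h1 : u * u⁻¹ ∈ Subgroup.normalizer (K : Set G) := by
    rw [mul_inv_cancel]; exact Subgroup.one_mem _
  rw [← conjSet_mul K u u⁻¹ hu hu' h1]
  have e : conjSet K (u * u⁻¹) h1 A = conjSet K 1 (Subgroup.one_mem _) A := by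
    unfold conjSet
    apply mapSet_congr
    intro x
    apply Subtype.ext
    simp [conjAut_apply_coe]
  rw [e, conjSet_one]

theorem conjSet_inv_conjSet (K : Subgroup G) (u : G) (hu : u ∈ Subgroup.normalizer (K : Set G))
    (hu' : u⁻¹ ∈ Subgroup.normalizer (K : Set G)) (A : Set (Cfsg.IrrCharacter K)) :
    conjSet K u⁻¹ hu' (conjSet K u hu A) = A := by
  have h1 : u⁻¹ * u ∈ Subgroup.normalizer (K : Set G) := by
    rw [inv_mul_cancel]; exact Subgroup.one_mem _
  rw [← conjSet_mul K u⁻¹ u hu' hu h1]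
  have e : conjSet K (u⁻¹ * u) h1 A = conjSet K 1 (Subgroup.one_mem _) A := by
    unfold conjSet
    apply mapSet_congr
    intro x
    apply Subtype.ext
    simp [conjAut_apply_coe]
  rw [e, conjSet_one]

theorem isPBlock_conjSet (hM : M.IsPrime) (K : Subgroup G) (u : G)
    (hu : u ∈ Subgroup.normalizer (K : Set G)) {A : Set (Cfsg.IrrCharacter K)}
    (hA : Cfsg.IsPBlock M A) : Cfsg.IsPBlock M (conjSet K u hu A) :=
  isPBlock_mapSet hM _ hA

theorem isPBlock_conjSet_iff (hM : M.IsPrime) (K : Subgroup G) (u : G)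
    (hu : u ∈ Subgroup.normalizer (K : Set G)) (A : Set (Cfsg.IrrCharacter K)) :
    Cfsg.IsPBlock M (conjSet K u hu A) ↔ Cfsg.IsPBlock M A :=
  isPBlock_mapSet_iff hM _ A

/-- a subgroup all of whose elements stabilize `A` fixes `A` -/
theorem conjSet_eq_of_stabilizes {P K : Subgroup G} {A : Set (Cfsg.IrrCharacter K)}
    (h : ∀ x ∈ P, Cfsg.StabilizesBlock K A x) {u : G} (hu : u ∈ P) :
    conjSet K u (h u hu).1 A = A := by
  apply Set.Subset.antisymm ((stabilizesBlock_iff K A u (h u hu).1).mp (h u hu))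
  have hu' := P.inv_mem hu
  have h2 := (stabilizesBlock_iff K A u⁻¹ (h u⁻¹ hu').1).mp (h u⁻¹ hu')
  have h3 : conjSet K u (h u hu).1 (conjSet K u⁻¹ (h u⁻¹ hu').1 A) ⊆ conjSet K u (h u hu).1 A :=
    mapSet_mono (conjAut K u (h u hu).1) h2
  rw [conjSet_conjSet_inv K u (h u hu).1 (h u⁻¹ hu').1 A] at h3
  exact h3

theorem ext0_blockCoeff_conjSet (K : Subgroup G) (u : G)
    (hu : u ∈ Subgroup.normalizer (K : Set G)) (A : Set (Cfsg.IrrCharacter K)) (g : G) :
    ext0 K (Cfsg.blockCoeff (conjSet K u hu A)) (u * g * u⁻¹) = ext0 K (Cfsg.blockCoeff A) g := by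
  by_cases hg : g ∈ K
  · have hg' : u * g * u⁻¹ ∈ K := (Subgroup.mem_normalizer_iff.mp hu g).mp hg
    rw [ext0_of_mem K _ hg, ext0_of_mem K _ hg']
    exact blockCoeff_mapSet (conjAut K u hu) A ⟨g, hg⟩
  · have hg' : u * g * u⁻¹ ∉ K := fun h => hg ((Subgroup.mem_normalizer_iff.mp hu g).mpr h)
    rw [ext0_of_not_mem K _ hg, ext0_of_not_mem K _ hg']

/-- the idempotent of a set of characters stabilized by `P` is invariant under `P` -/
theorem invBy_ext0_blockCoeff_of_stabilizes {P K : Subgroup G} {A : Set (Cfsg.IrrCharacter K)}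
    (h : ∀ x ∈ P, Cfsg.StabilizesBlock K A x) : InvBy P (ext0 K (Cfsg.blockCoeff A)) := by
  intro u hu g
  have := ext0_blockCoeff_conjSet K u (h u hu).1 A g
  rw [conjSet_eq_of_stabilizes h hu] at this
  exact this

end Conj

end Cfsg.Agent.Lib.Helper77
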