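import Mathlib
import Cfsg.Prelude.Def_Blocks
import Cfsg.Prelude.Def_BlockLocal
import Cfsg.Prelude.Def_BrauerPairs
import Cfsg.Agent.Lib.Helper77.BrauerMap
import Cfsg.Agent.Lib.Helper77.IrrMap

/-!
# Brauer pairs: normal inclusion and blocks
-/

set_option autoImplicit false
set_option linter.unusedSectionVars false

namespace Cfsg.Agent.Lib.Helper77

open Cfsg Cfsg.Agent.Lib.Helper16 Cfsg.Agent.Lib.Helper81

section Pairs

variable {G : Type*} [Group G] [Fintype G] {M : Ideal Cfsg.AlgInt}

theorem ext0_res_of_mem (H : Subgroup G) (a : G → ℂ) {g : G} (hg : g ∈ H) :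
    ext0 H (res H a) g = a g := by
  rw [ext0_of_mem H _ hg]; rfl

/-- truncation to a subgroup normalized by `P` preserves invariance under `P` -/
theorem invBy_ext0_res {P H : Subgroup G} (hPN : P ≤ Subgroup.normalizer (H : Set G))
    {a : G → ℂ} (ha : InvBy P a) : InvBy P (ext0 H (res H a)) := by
  intro u hu g
  have hn := hPN hu
  by_cases hg : g ∈ H
  · have hg' : u * g * u⁻¹ ∈ H := (Subgroup.mem_normalizer_iff.mp hn g).mp hg
    rw [ext0_res_of_mem H a hg, ext0_res_of_mem H a hg', ha u hu]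
  · have hg' : u * g * u⁻¹ ∉ H := fun h => hg ((Subgroup.mem_normalizer_iff.mp hn g).mpr h)
    rw [ext0_of_not_mem H _ hg, ext0_of_not_mem H _ hg']

theorem memLocalRing_blockCoeff' (hM : M.IsPrime) {H : Type*} [Group H] [Finite H]
    (B : Set (Cfsg.IrrCharacter H)) (hB : Cfsg.IsPBlock M B) : LocInt M (Cfsg.blockCoeff B) := by
  have := Fintype.ofFinite H
  exact fun g => memLocalRing_blockCoeff hM B hB g

/-- one normal step: a block containing the lower pair contains the upper pair -/
theorem isBrauerPairOf_of_isNormalSubpair {p : ℕ} [Fact p.Prime] (hM : Cfsg.IsPModular p M)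
    {Q P : Subgroup G} {f : Set (Cfsg.IrrCharacter (Subgroup.centralizer (Q : Set G)))}
    {e : Set (Cfsg.IrrCharacter (Subgroup.centralizer (P : Set G)))}
    (h : Cfsg.IsNormalSubpair p M Q f P e) {B : Set (Cfsg.IrrCharacter G)}
    (hBf : Cfsg.IsBrauerPairOf p M B Q f) : Cfsg.IsBrauerPairOf p M B P e := by
  have hMp := isPrime_of_isPModular hM
  obtain ⟨hQf, hPe, hQP, hPN, hstab, hξ⟩ := h
  obtain ⟨-, hB, hBω⟩ := hBf
  refine ⟨hPe, hB, fun ξ hξe => ?_⟩
  have hfin : Fintype (Subgroup.centralizer (Q : Set G)) := Fintype.ofFinite _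
  have hCH : Subgroup.centralizer (P : Set G) ≤ Subgroup.centralizer (Q : Set G) :=
    Subgroup.centralizer_le hQP
  have hBR : LocInt M (Cfsg.blockCoeff B) := fun g => memLocalRing_blockCoeff hMp B hB g
  have hBc := blockCoeff_isClassFunction B
  have hfR : LocInt M (Cfsg.blockCoeff f) := fun g => memLocalRing_blockCoeff hMp f hQf.2 g
  have hz : LocInt M (res (Subgroup.centralizer (Q : Set G)) (Cfsg.blockCoeff B) - delta1) :=
    locInt_sub hMp (locInt_res _ hBR) (locInt_delta1 hMp)
  have hzc : Cfsg.IsClassFunction (Subgroup.centralizer (Q : Set G))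
      (res (Subgroup.centralizer (Q : Set G)) (Cfsg.blockCoeff B) - delta1) :=
    isClassFunction_sub (isClassFunction_res (invBy_of_isClassFunction hBc _))
      isClassFunction_delta1
  have hzP : InvBy P (ext0 (Subgroup.centralizer (Q : Set G))
      (res (Subgroup.centralizer (Q : Set G)) (Cfsg.blockCoeff B) - delta1)) := by
    rw [ext0_sub, ext0_delta1]
    exact invBy_sub (invBy_ext0_res (fun x hx => (hstab x hx).1) (invBy_of_isClassFunction hBc _))
      (invBy_delta1 _)
  have key := brauer_eval hM P hPe.1 ξ (Subgroup.centralizer (Q : Set G)) hCH f hfR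
    (invBy_ext0_blockCoeff_of_stabilizes hstab)
    (not_memLocalIdeal_of_sub_one hMp (hξ ξ hξe)) hz hzc hzP (by
      intro ζ hζ
      rw [omegaF_sub, omegaF_delta1, ← brauerOmega_eq_omegaF]
      exact hBω ζ hζ)
  rw [ext0_sub, ext0_delta1, brauerOmega_sub, brauerOmega_delta1] at key
  rw [brauerOmega_congr P (b := ext0 (Subgroup.centralizer (Q : Set G))
    (res (Subgroup.centralizer (Q : Set G)) (Cfsg.blockCoeff B)))
    (fun x hx => (ext0_res_of_mem _ _ (hCH hx)).symm)]
  exact key

/-- along an inclusion of Brauer pairs, a block containing the lower pair contains the upper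
pair -/
theorem isBrauerPairOf_of_subpairLE {p : ℕ} [Fact p.Prime] (hM : Cfsg.IsPModular p M)
    {B : Set (Cfsg.IrrCharacter G)} {a b : Cfsg.BrauerPairIdx G}
    (h : Relation.ReflTransGen (Cfsg.NormalSubpairRel p M) a b)
    (ha : Cfsg.IsBrauerPairOf p M B a.1 a.2) : Cfsg.IsBrauerPairOf p M B b.1 b.2 := by
  induction h with
  | refl => exact ha
  | tail _ hbc ih => exact isBrauerPairOf_of_isNormalSubpair hM hbc ih

theorem ext0_finset_sum (H : Subgroup G) {ι : Type*} (s : Finset ι) (c : ι → H → ℂ) :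
    ext0 H (∑ i ∈ s, c i) = ∑ i ∈ s, ext0 H (c i) := by
  classical
  induction s using Finset.induction_on with
  | empty => simp [ext0_zero]
  | insert i s hi ih => rw [Finset.sum_insert hi, Finset.sum_insert hi, ext0_add, ih]

theorem memLocalRing_brauerOmega' (hM : M.IsPrime) (P : Subgroup G)
    (ξ : Cfsg.IrrCharacter (Subgroup.centralizer (P : Set G))) {a : G → ℂ}
    (ha : LocInt M a) (haC : InvBy (Subgroup.centralizer (P : Set G)) a) :
    Cfsg.MemLocalRing M (Cfsg.brauerOmega P a (ξ : Subgroup.centralizer (P : Set G) → ℂ)) := by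
  have := Fintype.ofFinite (Subgroup.centralizer (P : Set G))
  rw [brauerOmega_eq_omegaF]
  exact memLocalRing_omegaF hM ξ (locInt_res _ ha) (isClassFunction_res haC)

/-- **Stable blocks under the Brauer functional.**  Let `H` be a subgroup normalized by the
`p`-subgroup `P` and containing its centralizer, and `ξ` an irreducible character of that
centralizer.  Among the blocks of `H` stabilized by `P` there is exactly one whose idempotent
is not killed by the Brauer functional at `ξ`, and on it the functional is congruent to `1`. -/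
theorem exists_stable_block {p : ℕ} [Fact p.Prime] (hM : Cfsg.IsPModular p M) (P : Subgroup G)
    (hP : IsPGroup p P) (ξ : Cfsg.IrrCharacter (Subgroup.centralizer (P : Set G)))
    (H : Subgroup G) (hCH : Subgroup.centralizer (P : Set G) ≤ H)
    (hPN : P ≤ Subgroup.normalizer (H : Set G)) :
    ∃ A : Set (Cfsg.IrrCharacter H), Cfsg.IsPBlock M A ∧
      (∀ x ∈ P, Cfsg.StabilizesBlock H A x) ∧
      Cfsg.MemLocalIdeal M (Cfsg.brauerOmega P (ext0 H (Cfsg.blockCoeff A))
        (ξ : Subgroup.centralizer (P : Set G) → ℂ) - 1) ∧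
      ∀ B : Set (Cfsg.IrrCharacter H), Cfsg.IsPBlock M B →
        (∀ x ∈ P, Cfsg.StabilizesBlock H B x) →
        ¬ Cfsg.MemLocalIdeal M (Cfsg.brauerOmega P (ext0 H (Cfsg.blockCoeff B))
          (ξ : Subgroup.centralizer (P : Set G) → ℂ)) → B = A := by
  classical
  have hMp := isPrime_of_isPModular hM
  have hfinH : Fintype H := Fintype.ofFinite H
  have := irr_finite H
  have hfinS : Fintype (Set (Cfsg.IrrCharacter H)) := Fintype.ofFinite _
  have hR : ∀ A : Set (Cfsg.IrrCharacter H), Cfsg.IsPBlock M A → LocInt M (Cfsg.blockCoeff A) :=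
    fun A hA g => memLocalRing_blockCoeff hMp A hA g
  have hC : ∀ A : Set (Cfsg.IrrCharacter H),
      InvBy (Subgroup.centralizer (P : Set G)) (ext0 H (Cfsg.blockCoeff A)) :=
    fun A => invBy_ext0 hCH (blockCoeff_isClassFunction A)
  have hadm : ∀ A : Set (Cfsg.IrrCharacter H), Cfsg.IsPBlock M A →
      (∀ x ∈ P, Cfsg.StabilizesBlock H A x) → BrAdm M P (ext0 H (Cfsg.blockCoeff A)) :=
    fun A hA hs => brAdm_ext0 hMp hCH (hR A hA) (blockCoeff_isClassFunction A)
      (invBy_ext0_blockCoeff_of_stabilizes hs)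
  have hex : ∃ A : Set (Cfsg.IrrCharacter H), Cfsg.IsPBlock M A ∧
      (∀ x ∈ P, Cfsg.StabilizesBlock H A x) ∧
      ¬ Cfsg.MemLocalIdeal M (Cfsg.brauerOmega P (ext0 H (Cfsg.blockCoeff A))
        (ξ : Subgroup.centralizer (P : Set G) → ℂ)) := by
    by_contra hcon
    push Not at hcon
    have hsum := sum_memLocalIdeal_of_pgroup_act hM hP
      (fun (u : P) (A : Set (Cfsg.IrrCharacter H)) => conjSet H (u : G) (hPN u.2) A)
      (fun A => conjSet_one H _ A)
      (fun u v A => conjSet_mul H u v (hPN u.2) (hPN v.2) _ A)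
      (fun A => if Cfsg.IsPBlock M A then Cfsg.brauerOmega P (ext0 H (Cfsg.blockCoeff A))
        (ξ : Subgroup.centralizer (P : Set G) → ℂ) else 0)
      ?_ ?_ ?_
    · have h1 := brauerOmega_finset_sum P Finset.univ
        (fun A : Set (Cfsg.IrrCharacter H) =>
          if Cfsg.IsPBlock M A then ext0 H (Cfsg.blockCoeff A) else 0)
        (ξ : Subgroup.centralizer (P : Set G) → ℂ)
      have e1 : ∑ A : Set (Cfsg.IrrCharacter H),
          (if Cfsg.IsPBlock M A then ext0 H (Cfsg.blockCoeff A) else 0) = (delta1 : G → ℂ) := by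
        rw [← ext0_delta1 H, ← sum_isPBlock_blockCoeff (G := H) hMp, ext0_finset_sum]
        refine Finset.sum_congr rfl fun A _ => ?_
        by_cases hA : Cfsg.IsPBlock M A
        · rw [if_pos hA, if_pos hA]
        · rw [if_neg hA, if_neg hA, ext0_zero]
      rw [e1, brauerOmega_delta1] at h1
      apply not_memLocalIdeal_one hMp
      rw [h1]
      convert hsum using 1
      refine Finset.sum_congr rfl fun A _ => ?_
      by_cases hA : Cfsg.IsPBlock M A
      · rw [if_pos hA, if_pos hA]
      · rw [if_neg hA, if_neg hA, brauerOmega_zero]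
    · intro A
      by_cases hA : Cfsg.IsPBlock M A
      · rw [if_pos hA]
        exact memLocalRing_brauerOmega' hMp P ξ (locInt_ext0 hMp H (hR A hA)) (hC A)
      · rw [if_neg hA]
        exact memLocalRing_zero hMp
    · intro u A
      have hiff := isPBlock_conjSet_iff hMp H (u : G) (hPN u.2) A
      by_cases hA : Cfsg.IsPBlock M A
      · rw [if_pos hA, if_pos (hiff.mpr hA)]
        apply brauerOmega_congr
        intro x hx
        have := ext0_blockCoeff_conjSet H (u : G) (hPN u.2) A x
        rw [conj_eq_of_mem_centralizer u.2 hx] at this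
        exact this
      · rw [if_neg hA, if_neg (fun h => hA (hiff.mp h))]
    · intro A hfix
      by_cases hA : Cfsg.IsPBlock M A
      · rw [if_pos hA]
        apply hcon A hA
        intro x hx
        rw [stabilizesBlock_iff H A x (hPN hx)]
        have := hfix ⟨x, hx⟩
        rw [this]
      · rw [if_neg hA]
        exact memLocalIdeal_zero hMp
  obtain ⟨A, hA, hAs, hAn⟩ := hex
  have hA1 : Cfsg.MemLocalIdeal M (Cfsg.brauerOmega P (ext0 H (Cfsg.blockCoeff A))
      (ξ : Subgroup.centralizer (P : Set G) → ℂ) - 1) := by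
    apply memLocalIdeal_sub_one_of_idem hMp (memLocalRing_brauerOmega hMp P ξ (hadm A hA hAs)) _ hAn
    have h2 := memLocalIdeal_brauerOmega_conv hM P hP ξ (hadm A hA hAs) (hadm A hA hAs)
    rw [conv_ext0, conv_blockCoeff, Set.inter_self] at h2
    exact h2
  refine ⟨A, hA, hAs, hA1, ?_⟩
  intro B hB hBs hBn
  by_contra hne
  have h2 := memLocalIdeal_brauerOmega_conv hM P hP ξ (hadm A hA hAs) (hadm B hB hBs)
  rw [conv_ext0, conv_blockCoeff_of_inter_eq_empty (isPBlock_inter_eq_empty hMp hA hB (Ne.symm hne)),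
    ext0_zero, brauerOmega_zero, zero_sub] at h2
  have h3 := memLocalIdeal_neg h2
  rw [neg_neg] at h3
  rcases memLocalIdeal_or_of_mul hMp (memLocalRing_brauerOmega hMp P ξ (hadm A hA hAs))
    (memLocalRing_brauerOmega hMp P ξ (hadm B hB hBs)) h3 with h4 | h4
  · exact hAn h4
  · exact hBn h4

omit [Fintype G] in
theorem normalizer_le_normalizer_centralizer (Q : Subgroup G) :
    Subgroup.normalizer (Q : Set G) ≤
      Subgroup.normalizer ((Subgroup.centralizer (Q : Set G) : Subgroup G) : Set G) := by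
  intro u hu
  have key : ∀ (v : G), v ∈ Subgroup.normalizer (Q : Set G) →
      ∀ h : G, h ∈ Subgroup.centralizer (Q : Set G) →
        v * h * v⁻¹ ∈ Subgroup.centralizer (Q : Set G) := by
    intro v hv h hh
    rw [Subgroup.mem_centralizer_iff] at hh ⊢
    intro q hq
    have hq' : v⁻¹ * q * v ∈ (Q : Set G) := (Subgroup.mem_normalizer_iff''.mp hv q).mp hq
    have := hh _ hq'
    calc q * (v * h * v⁻¹) = v * ((v⁻¹ * q * v) * h) * v⁻¹ := by group
      _ = v * (h * (v⁻¹ * q * v)) * v⁻¹ := by rw [this]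
      _ = v * h * v⁻¹ * q := by group
  rw [Subgroup.mem_normalizer_iff]
  intro h
  constructor
  · exact key u hu h
  · intro hh
    have := key u⁻¹ (Subgroup.inv_mem _ hu) _ hh
    have e : u⁻¹ * (u * h * u⁻¹) * u⁻¹⁻¹ = h := by group
    rwa [e] at this

/-- **Normal subpairs.**  If `Q ≤ P ≤ N_G(Q)` and `(P, e)` is a Brauer pair, there is exactly
one block `f` of `C_G(Q)` with `(Q, f)` normal in `(P, e)`. -/
theorem existsUnique_isNormalSubpair {p : ℕ} [Fact p.Prime] (hM : Cfsg.IsPModular p M)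
    (P Q : Subgroup G) (e : Set (Cfsg.IrrCharacter (Subgroup.centralizer (P : Set G))))
    (hPe : Cfsg.IsBrauerPair p M P e) (hQP : Q ≤ P)
    (hPN : P ≤ Subgroup.normalizer (Q : Set G)) :
    ∃! f : Set (Cfsg.IrrCharacter (Subgroup.centralizer (Q : Set G))),
      Cfsg.IsNormalSubpair p M Q f P e := by
  have hMp := isPrime_of_isPModular hM
  obtain ⟨hP, he⟩ := hPe
  obtain ⟨ξ, hξ⟩ := IsPBlock.nonempty hMp he
  have hCH : Subgroup.centralizer (P : Set G) ≤ Subgroup.centralizer (Q : Set G) :=
    Subgroup.centralizer_le hQP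
  have hPN' : P ≤ Subgroup.normalizer
      ((Subgroup.centralizer (Q : Set G) : Subgroup G) : Set G) :=
    hPN.trans (normalizer_le_normalizer_centralizer Q)
  obtain ⟨A, hA, hAs, hA1, hAu⟩ :=
    exists_stable_block hM P hP ξ (Subgroup.centralizer (Q : Set G)) hCH hPN'
  have hfin : Fintype (Subgroup.centralizer (Q : Set G)) := Fintype.ofFinite _
  have hadm : BrAdm M P (ext0 (Subgroup.centralizer (Q : Set G)) (Cfsg.blockCoeff A)) :=
    brAdm_ext0 hMp hCH (fun g => memLocalRing_blockCoeff hMp A hA g)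
      (blockCoeff_isClassFunction A) (invBy_ext0_blockCoeff_of_stabilizes hAs)
  refine ⟨A, ⟨⟨hP.to_le hQP, hA⟩, ⟨hP, he⟩, hQP, hPN, hAs, ?_⟩, ?_⟩
  · intro ξ' hξ'
    have h1 := memLocalIdeal_brauerOmega_sub_of_sameBlock hMp P
      (IsPBlock.sameBlock hMp he hξ' hξ) hadm
    have h2 := memLocalIdeal_add hMp h1 hA1
    rwa [sub_add_sub_cancel] at h2
  · intro f hf
    obtain ⟨hQf, -, -, -, hfs, hfω⟩ := hf
    exact hAu f hQf.2 hfs (not_memLocalIdeal_of_sub_one hMp (hfω ξ hξ))

end Pairs

end Cfsg.Agent.Lib.Helper77
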