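import Mathlib
import Cfsg.Prelude.Def_Blocks
import Cfsg.Prelude.Def_BlockLocal
import Cfsg.Prelude.Def_BrauerPairs
import Cfsg.Agent.Lib.Helper77.BrauerPair

/-!
# Inclusion of Brauer pairs: existence and uniqueness of the pair on each subgroup
-/

set_option autoImplicit false
set_option linter.unusedSectionVars false

namespace Cfsg.Agent.Lib.Helper77

open Cfsg Cfsg.Agent.Lib.Helper16 Cfsg.Agent.Lib.Helper81

section Subpairs

variable {G : Type*} [Group G] [Fintype G] {M : Ideal Cfsg.AlgInt}

theorem subpairLE_le {p : ℕ} {a b : Cfsg.BrauerPairIdx G}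
    (h : Relation.ReflTransGen (Cfsg.NormalSubpairRel p M) a b) : a.1 ≤ b.1 := by
  induction h with
  | refl => exact le_rfl
  | tail _ hbc ih => exact ih.trans hbc.2.2.1

theorem stabilizesBlock_of_mem_self (P : Subgroup G)
    (e : Set (Cfsg.IrrCharacter (Subgroup.centralizer (P : Set G)))) {x : G} (hx : x ∈ P) :
    Cfsg.StabilizesBlock (Subgroup.centralizer (P : Set G)) e x := by
  refine ⟨normalizer_le_normalizer_centralizer P (Subgroup.le_normalizer hx),
    fun χ hχ => ⟨χ, hχ, ?_⟩⟩
  intro k k' hk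
  have : k' = k := Subtype.ext (hk.trans (conj_eq_of_mem_centralizer hx k.2))
  rw [this]

theorem isNormalSubpair_self {p : ℕ} (hM : M.IsPrime) {P : Subgroup G}
    {e : Set (Cfsg.IrrCharacter (Subgroup.centralizer (P : Set G)))}
    (hPe : Cfsg.IsBrauerPair p M P e) : Cfsg.IsNormalSubpair p M P e P e := by
  refine ⟨hPe, hPe, le_rfl, Subgroup.le_normalizer,
    fun x hx => stabilizesBlock_of_mem_self P e hx, ?_⟩
  intro ξ hξ
  have := Fintype.ofFinite (Subgroup.centralizer (P : Set G))
  rw [subgroupBlockCoeff_eq_ext0, brauerOmega_eq_omegaF, res_ext0, omegaF_blockCoeff_set,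
    if_pos hξ, sub_self]
  exact memLocalIdeal_zero hM

/-- the last step of a chain of normal inclusions can be taken to be proper -/
theorem subpairLE_cases {p : ℕ} [Fact p.Prime] (hM : Cfsg.IsPModular p M)
    {a b : Cfsg.BrauerPairIdx G}
    (h : Relation.ReflTransGen (Cfsg.NormalSubpairRel p M) a b) :
    a = b ∨ ∃ c : Cfsg.BrauerPairIdx G, c.1 ≠ b.1 ∧
      Relation.ReflTransGen (Cfsg.NormalSubpairRel p M) a c ∧ Cfsg.NormalSubpairRel p M c b := by
  have hMp := isPrime_of_isPModular hM
  induction h with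
  | refl => exact Or.inl rfl
  | @tail b c hab hbc ih =>
    by_cases hne : b.1 = c.1
    · have hbc' : b = c := by
        obtain ⟨R, g⟩ := b
        obtain ⟨P, e⟩ := c
        simp only at hne
        subst hne
        have h1 : Cfsg.IsNormalSubpair p M R g R e := hbc
        have h2 : Cfsg.IsNormalSubpair p M R e R e := isNormalSubpair_self hMp h1.2.1
        have := (existsUnique_isNormalSubpair hM R R e h1.2.1 le_rfl
          Subgroup.le_normalizer).unique h1 h2
        rw [this]
      rw [← hbc']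
      exact ih
    · exact Or.inr ⟨b, hne, hab, hbc⟩

omit [Fintype G] in
theorem conjSet_congr (K : Subgroup G) {u v : G} (h : u = v)
    (hu : u ∈ Subgroup.normalizer (K : Set G)) (hv : v ∈ Subgroup.normalizer (K : Set G))
    (A : Set (Cfsg.IrrCharacter K)) : conjSet K u hu A = conjSet K v hv A := by
  subst h
  rfl

omit [Fintype G] in
/-- the Brauer functional of a conjugated coefficient function -/
theorem brauerOmega_conj (R : Subgroup G) (u : G)
    (hu : u ∈ Subgroup.normalizer ((Subgroup.centralizer (R : Set G) : Subgroup G) : Set G))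
    (a a' : G → ℂ) (h : ∀ y ∈ Subgroup.centralizer (R : Set G), a' (u * y * u⁻¹) = a y)
    (ζ : Cfsg.IrrCharacter (Subgroup.centralizer (R : Set G))) :
    Cfsg.brauerOmega R a' (ζ : Subgroup.centralizer (R : Set G) → ℂ) =
      Cfsg.brauerOmega R a
        (mapIrr (conjAut (Subgroup.centralizer (R : Set G)) u hu).symm ζ :
          Subgroup.centralizer (R : Set G) → ℂ) := by
  unfold Cfsg.brauerOmega
  rw [← finsum_comp_equiv (conjAut (Subgroup.centralizer (R : Set G)) u hu).toEquiv]
  refine finsum_congr fun y => ?_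
  rw [mapIrr_one]
  have e1 : a' (((conjAut (Subgroup.centralizer (R : Set G)) u hu).toEquiv y :
      Subgroup.centralizer (R : Set G)) : G) = a y := h y y.2
  rw [e1]
  rfl

/-- conjugating the lower pair of a normal inclusion by an element normalizing both
subgroups and fixing the upper block gives a normal inclusion -/
theorem isNormalSubpair_conj {p : ℕ} (hM : M.IsPrime) {Q R : Subgroup G}
    {f : Set (Cfsg.IrrCharacter (Subgroup.centralizer (Q : Set G)))}
    {g : Set (Cfsg.IrrCharacter (Subgroup.centralizer (R : Set G)))}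
    (h : Cfsg.IsNormalSubpair p M Q f R g) {u : G}
    (huQ : u ∈ Subgroup.normalizer (Q : Set G)) (huR : u ∈ Subgroup.normalizer (R : Set G))
    (hg : conjSet (Subgroup.centralizer (R : Set G)) u
      (normalizer_le_normalizer_centralizer R huR) g = g) :
    Cfsg.IsNormalSubpair p M Q (conjSet (Subgroup.centralizer (Q : Set G)) u
      (normalizer_le_normalizer_centralizer Q huQ) f) R g := by
  obtain ⟨hQf, hRg, hQR, hRN, hfs, hfω⟩ := h
  have huQ' := normalizer_le_normalizer_centralizer Q huQ
  have huR' := normalizer_le_normalizer_centralizer R huR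
  refine ⟨⟨hQf.1, isPBlock_conjSet hM _ u huQ' hQf.2⟩, hRg, hQR, hRN, ?_, ?_⟩
  · intro r hr
    have hrN := (hfs r hr).1
    rw [stabilizesBlock_iff _ _ r hrN]
    have hr' : u⁻¹ * r * u ∈ R := (Subgroup.mem_normalizer_iff''.mp huR r).mp hr
    have e1 : r * u = u * (u⁻¹ * r * u) := by group
    have hru := Subgroup.mul_mem _ hrN huQ'
    have hur := Subgroup.mul_mem _ huQ' (hfs _ hr').1
    rw [← conjSet_mul _ r u hrN huQ' hru, conjSet_congr _ e1 hru hur,
      conjSet_mul _ u (u⁻¹ * r * u) huQ' (hfs _ hr').1 hur, conjSet_eq_of_stabilizes hfs hr']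
  · intro ζ hζ
    have hζ' : mapIrr (conjAut (Subgroup.centralizer (R : Set G)) u huR').symm ζ ∈ g := by
      have : ζ ∈ conjSet (Subgroup.centralizer (R : Set G)) u huR' g := by rw [hg]; exact hζ
      exact (mem_mapSet_iff _ _ _).mp this
    rw [subgroupBlockCoeff_eq_ext0, brauerOmega_conj R u huR'
      (ext0 _ (Cfsg.blockCoeff f)) (ext0 _ (Cfsg.blockCoeff (conjSet _ u huQ' f)))
      (fun y _ => ext0_blockCoeff_conjSet _ u huQ' f y) ζ]
    exact hfω _ hζ'

/-- **Normal subpairs of a pair are compatible.**  If `(Q, f)` and `(R, g)` are both normal in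
`(P, e)` and `Q ≤ R`, then `(Q, f)` is normal in `(R, g)`. -/
theorem isNormalSubpair_of_le {p : ℕ} [Fact p.Prime] (hM : Cfsg.IsPModular p M)
    {Q R P : Subgroup G} {f : Set (Cfsg.IrrCharacter (Subgroup.centralizer (Q : Set G)))}
    {g : Set (Cfsg.IrrCharacter (Subgroup.centralizer (R : Set G)))}
    {e : Set (Cfsg.IrrCharacter (Subgroup.centralizer (P : Set G)))} (hQR : Q ≤ R)
    (h1 : Cfsg.IsNormalSubpair p M Q f P e) (h2 : Cfsg.IsNormalSubpair p M R g P e) :
    Cfsg.IsNormalSubpair p M Q f R g := by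
  have hMp := isPrime_of_isPModular hM
  obtain ⟨hQf, hPe, hQP, hPNQ, hfs, hfω⟩ := h1
  obtain ⟨hRg, -, hRP, hPNR, hgs, hgω⟩ := h2
  have hRNQ : R ≤ Subgroup.normalizer (Q : Set G) := hRP.trans hPNQ
  have hex := existsUnique_isNormalSubpair hM R Q g hRg hQR hRNQ
  obtain ⟨f', hf'⟩ := hex.exists
  have hexP := existsUnique_isNormalSubpair hM P Q e hPe hQP hPNQ
  have hstab : ∀ x ∈ P, Cfsg.StabilizesBlock (Subgroup.centralizer (Q : Set G)) f' x := by
    intro u hu
    have huQ' := normalizer_le_normalizer_centralizer Q (hPNQ hu)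
    rw [stabilizesBlock_iff _ _ u huQ']
    have h3 := isNormalSubpair_conj hMp hf' (hPNQ hu) (hPNR hu)
      (conjSet_eq_of_stabilizes hgs hu)
    rw [hex.unique h3 hf']
  have key : Cfsg.IsNormalSubpair p M Q f' P e := by
    refine ⟨hf'.1, hPe, hQP, hPNQ, hstab, ?_⟩
    intro ξ hξ
    have hfinR : Fintype (Subgroup.centralizer (R : Set G)) := Fintype.ofFinite _
    have hfinQ : Fintype (Subgroup.centralizer (Q : Set G)) := Fintype.ofFinite _
    have hCPR : Subgroup.centralizer (P : Set G) ≤ Subgroup.centralizer (R : Set G) :=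
      Subgroup.centralizer_le hRP
    have hCRQ : Subgroup.centralizer (R : Set G) ≤ Subgroup.centralizer (Q : Set G) :=
      Subgroup.centralizer_le hQR
    have haR : LocInt M (ext0 (Subgroup.centralizer (Q : Set G)) (Cfsg.blockCoeff f')) :=
      locInt_ext0 hMp _ (fun k => memLocalRing_blockCoeff hMp f' hf'.1.2 k)
    have haP : InvBy P (ext0 (Subgroup.centralizer (Q : Set G)) (Cfsg.blockCoeff f')) :=
      invBy_ext0_blockCoeff_of_stabilizes hstab
    have haC : InvBy (Subgroup.centralizer (R : Set G))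
        (ext0 (Subgroup.centralizer (Q : Set G)) (Cfsg.blockCoeff f')) :=
      invBy_ext0 hCRQ (blockCoeff_isClassFunction f')
    have hz : LocInt M (res (Subgroup.centralizer (R : Set G))
        (ext0 (Subgroup.centralizer (Q : Set G)) (Cfsg.blockCoeff f')) - delta1) :=
      locInt_sub hMp (locInt_res _ haR) (locInt_delta1 hMp)
    have hzc : Cfsg.IsClassFunction (Subgroup.centralizer (R : Set G))
        (res (Subgroup.centralizer (R : Set G))
          (ext0 (Subgroup.centralizer (Q : Set G)) (Cfsg.blockCoeff f')) - delta1) :=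
      isClassFunction_sub (isClassFunction_res haC) isClassFunction_delta1
    have hzP : InvBy P (ext0 (Subgroup.centralizer (R : Set G))
        (res (Subgroup.centralizer (R : Set G))
          (ext0 (Subgroup.centralizer (Q : Set G)) (Cfsg.blockCoeff f')) - delta1)) := by
      rw [ext0_sub, ext0_delta1]
      exact invBy_sub (invBy_ext0_res (fun x hx => (hgs x hx).1) haP) (invBy_delta1 _)
    have key := brauer_eval hM P hPe.1 ξ (Subgroup.centralizer (R : Set G)) hCPR g
      (fun k => memLocalRing_blockCoeff hMp g hRg.2 k)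
      (invBy_ext0_blockCoeff_of_stabilizes hgs)
      (not_memLocalIdeal_of_sub_one hMp (hgω ξ hξ)) hz hzc hzP (by
        intro ζ hζ
        rw [omegaF_sub, omegaF_delta1, ← brauerOmega_eq_omegaF]
        exact hf'.2.2.2.2.2 ζ hζ)
    rw [ext0_sub, ext0_delta1, brauerOmega_sub, brauerOmega_delta1] at key
    rw [subgroupBlockCoeff_eq_ext0, brauerOmega_congr P
      (b := ext0 (Subgroup.centralizer (R : Set G)) (res (Subgroup.centralizer (R : Set G))
        (ext0 (Subgroup.centralizer (Q : Set G)) (Cfsg.blockCoeff f'))))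
      (fun x hx => (ext0_res_of_mem _ _ (hCPR hx)).symm)]
    exact key
  have : f' = f := hexP.unique key ⟨hQf, hPe, hQP, hPNQ, hfs, hfω⟩
  rw [← this]
  exact hf'

omit [Fintype G] in
/-- in a finite `p`-group a proper subgroup is properly contained in its normalizer -/
theorem exists_mem_normalizer_not_mem {p : ℕ} [Fact p.Prime] [Finite G] {P Q : Subgroup G}
    (hP : IsPGroup p P) (hQP : Q ≤ P) (hne : Q ≠ P) :
    ∃ x : G, x ∈ P ∧ x ∈ Subgroup.normalizer (Q : Set G) ∧ x ∉ Q := by
  have hnil : Group.IsNilpotent P := hP.isNilpotent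
  have hnc : NormalizerCondition P := Group.normalizerCondition_of_isNilpotent
  have hlt : Q.subgroupOf P < ⊤ := by
    rw [lt_top_iff_ne_top]
    intro h
    rw [Subgroup.subgroupOf_eq_top] at h
    exact hne (le_antisymm hQP h)
  obtain ⟨y, hyN, hyQ⟩ := SetLike.exists_of_lt (hnc _ hlt)
  refine ⟨(y : G), y.2, ?_, ?_⟩
  · rw [Subgroup.mem_normalizer_iff]
    intro h
    rw [Subgroup.mem_normalizer_iff] at hyN
    constructor
    · intro hh
      have := (hyN ⟨h, hQP hh⟩).mp (by rw [Subgroup.mem_subgroupOf]; exact hh)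
      rw [Subgroup.mem_subgroupOf] at this
      exact this
    · intro hh
      have hhP : h ∈ P := by
        have h1 : (y : G)⁻¹ * ((y : G) * h * (y : G)⁻¹) * (y : G) ∈ P :=
          P.mul_mem (P.mul_mem (P.inv_mem y.2) (hQP hh)) y.2
        have e : (y : G)⁻¹ * ((y : G) * h * (y : G)⁻¹) * (y : G) = h := by group
        rwa [e] at h1
      have := (hyN ⟨h, hhP⟩).mpr (by rw [Subgroup.mem_subgroupOf]; exact hh)
      rw [Subgroup.mem_subgroupOf] at this
      exact this
  · intro h
    exact hyQ (by rw [Subgroup.mem_subgroupOf]; exact h)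

/-- **Existence of subpairs.**  Below a Brauer pair `(P, e)` there is a pair on every subgroup
of `P`. -/
theorem exists_subpairLE {p : ℕ} [Fact p.Prime] (hM : Cfsg.IsPModular p M) (P : Subgroup G)
    (e : Set (Cfsg.IrrCharacter (Subgroup.centralizer (P : Set G))))
    (hPe : Cfsg.IsBrauerPair p M P e) :
    ∀ (n : ℕ) (Q : Subgroup G), Q ≤ P → Nat.card P - Nat.card Q ≤ n →
      ∃ f : Set (Cfsg.IrrCharacter (Subgroup.centralizer (Q : Set G))),
        Cfsg.IsPBlock M f ∧ Cfsg.SubpairLE p M Q f P e := by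
  intro n
  induction n with
  | zero =>
    intro Q hQP hn
    have hle := Subgroup.card_le_of_le hQP
    have : Q = P := Subgroup.eq_of_le_of_card_ge hQP (by omega)
    subst this
    exact ⟨e, hPe.2, Relation.ReflTransGen.refl⟩
  | succ n ih =>
    intro Q hQP hn
    by_cases hQ : Q = P
    · subst hQ
      exact ⟨e, hPe.2, Relation.ReflTransGen.refl⟩
    · obtain ⟨x, hxP, hxN, hxQ⟩ := exists_mem_normalizer_not_mem hPe.1 hQP hQ
      have hQR : Q ≤ P ⊓ Subgroup.normalizer (Q : Set G) := le_inf hQP Subgroup.le_normalizer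
      have hRP : P ⊓ Subgroup.normalizer (Q : Set G) ≤ P := inf_le_left
      have hlt : Nat.card Q < Nat.card (P ⊓ Subgroup.normalizer (Q : Set G) : Subgroup G) := by
        by_contra hcon
        push Not at hcon
        have := Subgroup.eq_of_le_of_card_ge hQR hcon
        apply hxQ
        rw [this]
        exact ⟨hxP, hxN⟩
      have hle := Subgroup.card_le_of_le hRP
      obtain ⟨g, hg, hgle⟩ := ih (P ⊓ Subgroup.normalizer (Q : Set G)) hRP (by omega)
      obtain ⟨f, hf, -⟩ := existsUnique_isNormalSubpair hM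
        (P ⊓ Subgroup.normalizer (Q : Set G)) Q g ⟨hPe.1.to_le hRP, hg⟩ hQR inf_le_right
      have hf' : Cfsg.NormalSubpairRel p M ⟨Q, f⟩ ⟨P ⊓ Subgroup.normalizer (Q : Set G), g⟩ := hf
      exact ⟨f, hf.1.2, Relation.ReflTransGen.head hf' hgle⟩

/-- **Uniqueness of subpairs.**  Below a Brauer pair there is at most one pair on each
subgroup. -/
theorem subpairLE_unique {p : ℕ} [Fact p.Prime] (hM : Cfsg.IsPModular p M) :
    ∀ (n : ℕ) (P : Subgroup G) (e : Set (Cfsg.IrrCharacter (Subgroup.centralizer (P : Set G)))),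
      Nat.card P ≤ n → Cfsg.IsBrauerPair p M P e →
      ∀ (Q : Subgroup G) (f f' : Set (Cfsg.IrrCharacter (Subgroup.centralizer (Q : Set G)))),
        Cfsg.SubpairLE p M Q f P e → Cfsg.SubpairLE p M Q f' P e → f = f' := by
  intro n
  induction n with
  | zero =>
    intro P e hn
    exfalso
    have := Nat.card_pos (α := P)
    omega
  | succ n ih =>
    intro P e hn hPe Q f f' h1 h2
    rcases subpairLE_cases hM h1 with h1' | ⟨c, hc, h1a, h1b⟩
    · rcases subpairLE_cases hM h2 with h2' | ⟨c', hc', h2a, h2b⟩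
      · have h3 : (⟨Q, f⟩ : Cfsg.BrauerPairIdx G) = ⟨Q, f'⟩ := h1'.trans h2'.symm
        exact eq_of_heq (Sigma.mk.inj h3).2
      · exfalso
        have hQP : Q = P := congrArg Sigma.fst h1'
        have hle1 : Q ≤ c'.1 := subpairLE_le h2a
        have hle2 : c'.1 ≤ P := h2b.2.2.1
        exact hc' (le_antisymm hle2 (hQP ▸ hle1))
    · rcases subpairLE_cases hM h2 with h2' | ⟨c', hc', h2a, h2b⟩
      · exfalso
        have hQP : Q = P := congrArg Sigma.fst h2'
        have hle1 : Q ≤ c.1 := subpairLE_le h1a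
        have hle2 : c.1 ≤ P := h1b.2.2.1
        exact hc (le_antisymm hle2 (hQP ▸ hle1))
      · obtain ⟨R, g⟩ := c
        obtain ⟨R', g'⟩ := c'
        have h1b' : Cfsg.IsNormalSubpair p M R g P e := h1b
        have h2b' : Cfsg.IsNormalSubpair p M R' g' P e := h2b
        have hRP : R ≤ P := h1b'.2.2.1
        have hR'P : R' ≤ P := h2b'.2.2.1
        have hPNR : P ≤ Subgroup.normalizer (R : Set G) := h1b'.2.2.2.1
        have hPNR' : P ≤ Subgroup.normalizer (R' : Set G) := h2b'.2.2.2.1
        have hTP : R ⊓ R' ≤ P := inf_le_left.trans hRP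
        have hPNT : P ≤ Subgroup.normalizer ((R ⊓ R' : Subgroup G) : Set G) := by
          intro u hu
          have hu1 := Subgroup.mem_normalizer_iff.mp (hPNR hu)
          have hu2 := Subgroup.mem_normalizer_iff.mp (hPNR' hu)
          rw [Subgroup.mem_normalizer_iff]
          intro h
          rw [Subgroup.mem_inf, Subgroup.mem_inf, hu1 h, hu2 h]
        obtain ⟨t, ht, -⟩ := existsUnique_isNormalSubpair hM P (R ⊓ R') e hPe hTP hPNT
        have hTR : Cfsg.IsNormalSubpair p M (R ⊓ R') t R g :=
          isNormalSubpair_of_le hM inf_le_left ht h1b'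
        have hTR' : Cfsg.IsNormalSubpair p M (R ⊓ R') t R' g' :=
          isNormalSubpair_of_le hM inf_le_right ht h2b'
        have hQT : Q ≤ R ⊓ R' := le_inf (subpairLE_le h1a) (subpairLE_le h2a)
        obtain ⟨f1, -, hf1⟩ := exists_subpairLE hM (R ⊓ R') t ht.1 _ Q hQT le_rfl
        have hcR : Nat.card R < Nat.card P := by
          by_contra hcon
          push Not at hcon
          exact hc (Subgroup.eq_of_le_of_card_ge hRP hcon)
        have hcR' : Nat.card R' < Nat.card P := by
          by_contra hcon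
          push Not at hcon
          exact hc' (Subgroup.eq_of_le_of_card_ge hR'P hcon)
        have e1 : f1 = f := ih R g (by omega) h1b'.1 Q f1 f (hf1.tail hTR) h1a
        have e2 : f1 = f' := ih R' g' (by omega) h2b'.1 Q f1 f' (hf1.tail hTR') h2a
        rw [← e1, ← e2]

end Subpairs

end Cfsg.Agent.Lib.Helper77
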