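import Mathlib
import Cfsg.Prelude.Def_Blocks
import Cfsg.Prelude.Def_BlockLocal
import Cfsg.Prelude.Def_BrauerPairs
import Cfsg.Agent.Lib.Helper77.SubpairUnique
import Cfsg.Agent.Lib.Helper77.MinMax
import Cfsg.Agent.Lib.Helper16.SylowCent

/-!
# Maximal Brauer pairs

A maximal Brauer pair `(P, e)` of a block `B`: the idempotent of `e` is killed by the Brauer
map at every larger `p`-subgroup stabilizing `e`; the orbit sum of `e` under `N_G(P)` lifts to
a class function of `G` supported on classes whose centralizers have Sylow `p`-subgroup `P`.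
Consequences: `P` is a defect group of `B`, and the Brauer pairs of `B` on `P` are conjugate
under `N_G(P)`.
-/

set_option autoImplicit false
set_option linter.unusedSectionVars false

namespace Cfsg.Agent.Lib.Helper77

open Cfsg Cfsg.Agent.Lib.Helper16 Cfsg.Agent.Lib.Helper81

section MaxPair

variable {G : Type*} [Group G] [Fintype G] {M : Ideal Cfsg.AlgInt}

/-- the Brauer functional kills admissible functions which are nilpotent modulo the local
ideal -/
theorem memLocalIdeal_brauerOmega_of_cpow {p : ℕ} [Fact p.Prime] (hM : Cfsg.IsPModular p M)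
    (P : Subgroup G) (hP : IsPGroup p P)
    (ξ : Cfsg.IrrCharacter (Subgroup.centralizer (P : Set G))) {d : G → ℂ}
    (hd : BrAdm M P d) (N : ℕ) (hN : LocIdl M (cpow d N)) :
    Cfsg.MemLocalIdeal M (Cfsg.brauerOmega P d (ξ : Subgroup.centralizer (P : Set G) → ℂ)) := by
  have hMp := isPrime_of_isPModular hM
  have h1 := memLocalIdeal_brauerOmega_of_locIdl hMp P ξ hN (brAdm_cpow hMp hd N).2.2
  have h2 := memLocalIdeal_brauerOmega_cpow hM P hP ξ hd N
  have h3 := memLocalIdeal_sub hMp h1 h2
  rw [sub_sub_cancel] at h3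
  exact memLocalIdeal_of_pow hMp (memLocalRing_brauerOmega hMp P ξ hd) h3

/-- on class functions of `G`, the Brauer functional at a Brauer pair of `B` is congruent to
the central character of `B` -/
theorem memLocalIdeal_brauerOmega_sub_omegaF {p : ℕ} [Fact p.Prime] (hM : Cfsg.IsPModular p M)
    {B : Set (Cfsg.IrrCharacter G)} {P : Subgroup G}
    {e : Set (Cfsg.IrrCharacter (Subgroup.centralizer (P : Set G)))}
    (h : Cfsg.IsBrauerPairOf p M B P e)
    {ξ : Cfsg.IrrCharacter (Subgroup.centralizer (P : Set G))} (hξ : ξ ∈ e)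
    {χ : Cfsg.IrrCharacter G} (hχ : χ ∈ B) {z : G → ℂ} (hz : LocInt M z)
    (hzc : Cfsg.IsClassFunction G z) :
    Cfsg.MemLocalIdeal M
      (Cfsg.brauerOmega P z (ξ : Subgroup.centralizer (P : Set G) → ℂ) -
        omegaF (χ : G → ℂ) z) := by
  have hMp := isPrime_of_isPModular hM
  obtain ⟨⟨hP, he⟩, hB, hω⟩ := h
  have hBc := blockCoeff_isClassFunction B
  have hBR : LocInt M (Cfsg.blockCoeff B) := fun g => memLocalRing_blockCoeff hMp B hB g
  have hωR : Cfsg.MemLocalRing M (omegaF (χ : G → ℂ) z) := memLocalRing_omegaF hMp χ hz hzc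
  have hwR : LocInt M (z - omegaF (χ : G → ℂ) z • (delta1 : G → ℂ)) :=
    locInt_sub hMp hz (locInt_smul hMp hωR (locInt_delta1 hMp))
  have hwc : Cfsg.IsClassFunction G (z - omegaF (χ : G → ℂ) z • (delta1 : G → ℂ)) :=
    isClassFunction_sub hzc (isClassFunction_smul _ isClassFunction_delta1)
  have hdc : Cfsg.IsClassFunction G
      (conv (z - omegaF (χ : G → ℂ) z • (delta1 : G → ℂ)) (Cfsg.blockCoeff B)) :=
    conv_isClassFunction hwc hBc
  have hdR : LocInt M
      (conv (z - omegaF (χ : G → ℂ) z • (delta1 : G → ℂ)) (Cfsg.blockCoeff B)) :=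
    locInt_conv hMp hwR hBR
  have hdω : ∀ ψ : Cfsg.IrrCharacter G, Cfsg.MemLocalIdeal M (omegaF (ψ : G → ℂ)
      (conv (z - omegaF (χ : G → ℂ) z • (delta1 : G → ℂ)) (Cfsg.blockCoeff B))) := by
    intro ψ
    rw [omegaF_conv ψ _ hBc, omegaF_blockCoeff_set, omegaF_sub, omegaF_smul', omegaF_delta1,
      mul_one]
    by_cases hψ : ψ ∈ B
    · rw [if_pos hψ, mul_one]
      exact memLocalIdeal_omegaF_sub hMp (IsPBlock.sameBlock hMp hB hψ hχ) hz hzc
    · rw [if_neg hψ, mul_zero]
      exact memLocalIdeal_zero hMp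
  obtain ⟨N, hN⟩ := exists_cpow_locIdl hMp hdc hdR hdω
  have hwA : BrAdm M P (z - omegaF (χ : G → ℂ) z • (delta1 : G → ℂ)) :=
    brAdm_of_isClassFunction hwR hwc
  have hBA : BrAdm M P (Cfsg.blockCoeff B) := brAdm_of_isClassFunction hBR hBc
  have h1 := memLocalIdeal_brauerOmega_of_cpow hM P hP ξ (brAdm_conv hMp hwA hBA) N hN
  have h2 := memLocalIdeal_brauerOmega_conv hM P hP ξ hwA hBA
  have h3 := memLocalIdeal_sub hMp h1 h2
  rw [sub_sub_cancel] at h3
  rcases memLocalIdeal_or_of_mul hMp (memLocalRing_brauerOmega hMp P ξ hwA)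
    (memLocalRing_brauerOmega hMp P ξ hBA) h3 with h4 | h4
  · rw [brauerOmega_sub, brauerOmega_smul, brauerOmega_delta1, mul_one] at h4
    exact h4
  · exact absurd h4 (not_memLocalIdeal_of_sub_one hMp (hω ξ hξ))

/-- **Maximality.**  If `(P, e)` is a maximal Brauer pair of `B`, then the idempotent of `e`
lies in the local ideal at every element centralizing a larger `p`-subgroup which normalizes
`P` and stabilizes `e`. -/
theorem memLocalIdeal_of_isMaximalBrauerPair {p : ℕ} [Fact p.Prime] (hM : Cfsg.IsPModular p M)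
    {B : Set (Cfsg.IrrCharacter G)} {P : Subgroup G}
    {e : Set (Cfsg.IrrCharacter (Subgroup.centralizer (P : Set G)))}
    (hmax : Cfsg.IsMaximalBrauerPair p M B P e) (R : Subgroup G) (hR : IsPGroup p R)
    (hPR : P ≤ R) (hRN : R ≤ Subgroup.normalizer (P : Set G)) (hne : R ≠ P)
    (hstab : ∀ x ∈ R, Cfsg.StabilizesBlock (Subgroup.centralizer (P : Set G)) e x) (y : G)
    (hy : y ∈ Subgroup.centralizer (R : Set G)) :
    Cfsg.MemLocalIdeal M (ext0 (Subgroup.centralizer (P : Set G)) (Cfsg.blockCoeff e) y) := by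
  have hMp := isPrime_of_isPModular hM
  have hPe := hmax.1.1
  have hfinP : Fintype (Subgroup.centralizer (P : Set G)) := Fintype.ofFinite _
  have hfinR : Fintype (Subgroup.centralizer (R : Set G)) := Fintype.ofFinite _
  have hCRC : Subgroup.centralizer (R : Set G) ≤ Subgroup.centralizer (P : Set G) :=
    Subgroup.centralizer_le hPR
  have heR : LocInt M (ext0 (Subgroup.centralizer (P : Set G)) (Cfsg.blockCoeff e)) :=
    locInt_ext0 hMp _ (fun k => memLocalRing_blockCoeff hMp e hPe.2 k)
  have hinv : InvBy R (ext0 (Subgroup.centralizer (P : Set G)) (Cfsg.blockCoeff e)) :=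
    invBy_ext0_blockCoeff_of_stabilizes hstab
  have hCinv : InvBy (Subgroup.centralizer (R : Set G))
      (ext0 (Subgroup.centralizer (P : Set G)) (Cfsg.blockCoeff e)) :=
    invBy_ext0 hCRC (blockCoeff_isClassFunction e)
  have hadm : BrAdm M R (ext0 (Subgroup.centralizer (P : Set G)) (Cfsg.blockCoeff e)) :=
    ⟨heR, hinv, hCinv⟩
  have hee : conv (ext0 (Subgroup.centralizer (P : Set G)) (Cfsg.blockCoeff e))
      (ext0 (Subgroup.centralizer (P : Set G)) (Cfsg.blockCoeff e)) =
      ext0 (Subgroup.centralizer (P : Set G)) (Cfsg.blockCoeff e) := by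
    rw [conv_ext0, conv_blockCoeff, Set.inter_self]
  have huc : Cfsg.IsClassFunction (Subgroup.centralizer (R : Set G))
      (res (Subgroup.centralizer (R : Set G))
        (ext0 (Subgroup.centralizer (P : Set G)) (Cfsg.blockCoeff e))) :=
    isClassFunction_res hCinv
  have huR : LocInt M (res (Subgroup.centralizer (R : Set G))
      (ext0 (Subgroup.centralizer (P : Set G)) (Cfsg.blockCoeff e))) := locInt_res _ heR
  have hidem : LocIdl M (conv (res (Subgroup.centralizer (R : Set G))
        (ext0 (Subgroup.centralizer (P : Set G)) (Cfsg.blockCoeff e)))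
      (res (Subgroup.centralizer (R : Set G))
        (ext0 (Subgroup.centralizer (P : Set G)) (Cfsg.blockCoeff e))) -
      res (Subgroup.centralizer (R : Set G))
        (ext0 (Subgroup.centralizer (P : Set G)) (Cfsg.blockCoeff e))) := by
    have h1 := locIdl_res_conv_sub hM R hR heR heR hinv hinv
    rw [hee] at h1
    have h2 := locIdl_neg h1
    rwa [neg_sub] at h2
  by_cases hall : ∀ ζ : Cfsg.IrrCharacter (Subgroup.centralizer (R : Set G)),
      Cfsg.MemLocalIdeal M (omegaF (ζ : Subgroup.centralizer (R : Set G) → ℂ)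
        (res (Subgroup.centralizer (R : Set G))
          (ext0 (Subgroup.centralizer (P : Set G)) (Cfsg.blockCoeff e))))
  · exact locIdl_of_idem_of_omegaF hMp huc huR hidem hall ⟨y, hy⟩
  · exfalso
    push Not at hall
    obtain ⟨ζ, hζ⟩ := hall
    have hg : ∀ ζ' ∈ Cfsg.blockOf M (ζ : Subgroup.centralizer (R : Set G) → ℂ),
        Cfsg.MemLocalIdeal M (Cfsg.brauerOmega R
          (Cfsg.subgroupBlockCoeff (Subgroup.centralizer (P : Set G)) e)
          (ζ' : Subgroup.centralizer (R : Set G) → ℂ) - 1) := by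
      intro ζ' hζ'
      rw [subgroupBlockCoeff_eq_ext0]
      have h1 := memLocalIdeal_brauerOmega_sub_of_sameBlock hMp R
        ((mem_blockOf_iff _ _).mp hζ') hadm
      have hn : ¬ Cfsg.MemLocalIdeal M (Cfsg.brauerOmega R
          (ext0 (Subgroup.centralizer (P : Set G)) (Cfsg.blockCoeff e))
          (ζ' : Subgroup.centralizer (R : Set G) → ℂ)) := by
        intro h
        apply hζ
        rw [← brauerOmega_eq_omegaF]
        have h2 := memLocalIdeal_add hMp h1 h
        rwa [sub_add_cancel] at h2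
      apply memLocalIdeal_sub_one_of_idem hMp (memLocalRing_brauerOmega hMp R ζ' hadm) _ hn
      have h3 := memLocalIdeal_brauerOmega_conv hM R hR ζ' hadm hadm
      rw [hee] at h3
      exact h3
    have hns : Cfsg.IsNormalSubpair p M P e R
        (Cfsg.blockOf M (ζ : Subgroup.centralizer (R : Set G) → ℂ)) :=
      ⟨hPe, ⟨hR, isPBlock_blockOf ζ⟩, hPR, hRN, hstab, hg⟩
    have hBR := isBrauerPairOf_of_isNormalSubpair hM hns hmax.1
    exact hne (hmax.2 R _ hBR (Relation.ReflTransGen.single hns))

/-- a set of irreducible characters which is a union of blocks -/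
def IsBlockUnion (M : Ideal Cfsg.AlgInt) {H : Type*} [Group H] (A : Set (Cfsg.IrrCharacter H)) :
    Prop := ∀ χ ∈ A, Cfsg.blockOf M (χ : H → ℂ) ⊆ A

open scoped Classical in
/-- the idempotent of a union of blocks is the sum of the block idempotents -/
theorem blockCoeff_eq_sum_of_isBlockUnion (hM : M.IsPrime) [Fintype (Set (Cfsg.IrrCharacter G))]
    (A : Set (Cfsg.IrrCharacter G)) (hA : IsBlockUnion M A) :
    Cfsg.blockCoeff A = ∑ f : Set (Cfsg.IrrCharacter G),
      if Cfsg.IsPBlock M f ∧ f ⊆ A then Cfsg.blockCoeff f else 0 := by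
  apply eq_of_omegaF_eq (blockCoeff_isClassFunction A)
  · apply isClassFunction_finset_sum
    intro f _
    by_cases hf : Cfsg.IsPBlock M f ∧ f ⊆ A
    · rw [if_pos hf]; exact blockCoeff_isClassFunction f
    · rw [if_neg hf]; exact isClassFunction_zero
  · intro χ
    rw [omegaF_finset_sum, omegaF_blockCoeff_set,
      Finset.sum_eq_single (Cfsg.blockOf M (χ : G → ℂ))]
    · by_cases hχ : χ ∈ A
      · rw [if_pos hχ, if_pos ⟨isPBlock_blockOf χ, hA χ hχ⟩, omegaF_blockCoeff_set,
          if_pos (mem_blockOf_self hM χ)]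
      · rw [if_neg hχ, if_neg, omegaF_zero]
        rintro ⟨-, h⟩
        exact hχ (h (mem_blockOf_self hM χ))
    · intro f _ hf
      by_cases hf' : Cfsg.IsPBlock M f ∧ f ⊆ A
      · rw [if_pos hf', omegaF_blockCoeff_set, if_neg]
        intro hχ
        exact hf (IsPBlock.eq_blockOf hM hf'.1 hχ)
      · rw [if_neg hf', omegaF_zero]
    · intro h
      exact absurd (Finset.mem_univ _) h

theorem locInt_blockCoeff_of_isBlockUnion (hM : M.IsPrime) (A : Set (Cfsg.IrrCharacter G))
    (hA : IsBlockUnion M A) : LocInt M (Cfsg.blockCoeff A) := by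
  classical
  have := irr_finite G
  have := Fintype.ofFinite (Set (Cfsg.IrrCharacter G))
  rw [blockCoeff_eq_sum_of_isBlockUnion hM A hA]
  intro g
  rw [Finset.sum_apply]
  apply memLocalRing_sum hM
  intro f _
  by_cases hf : Cfsg.IsPBlock M f ∧ f ⊆ A
  · rw [if_pos hf]; exact memLocalRing_blockCoeff hM f hf.1 g
  · rw [if_neg hf]; exact memLocalRing_zero hM

omit [Fintype G] in
/-- the union of the conjugates of `e` under the normalizer of `P` -/
def normOrbitUnion (P : Subgroup G)
    (e : Set (Cfsg.IrrCharacter (Subgroup.centralizer (P : Set G)))) :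
    Set (Cfsg.IrrCharacter (Subgroup.centralizer (P : Set G))) :=
  {ξ | ∃ x : G, ∃ hx : x ∈ Subgroup.normalizer (P : Set G),
    ξ ∈ conjSet (Subgroup.centralizer (P : Set G)) x
      (normalizer_le_normalizer_centralizer P hx) e}

omit [Fintype G] in
theorem subset_normOrbitUnion (P : Subgroup G)
    (e : Set (Cfsg.IrrCharacter (Subgroup.centralizer (P : Set G)))) :
    e ⊆ normOrbitUnion P e := by
  intro ξ hξ
  refine ⟨1, Subgroup.one_mem _, ?_⟩
  rw [conjSet_one]
  exact hξ

omit [Fintype G] in
theorem isBlockUnion_normOrbitUnion (hM : M.IsPrime) (P : Subgroup G)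
    {e : Set (Cfsg.IrrCharacter (Subgroup.centralizer (P : Set G)))}
    (he : Cfsg.IsPBlock M e) : IsBlockUnion M (normOrbitUnion P e) := by
  rintro ξ ⟨x, hx, hξ⟩
  have hb := isPBlock_conjSet hM _ x (normalizer_le_normalizer_centralizer P hx) he
  rw [← IsPBlock.eq_blockOf hM hb hξ]
  intro ψ hψ
  exact ⟨x, hx, hψ⟩

omit [Fintype G] in
theorem stabilizes_normOrbitUnion (P : Subgroup G)
    (e : Set (Cfsg.IrrCharacter (Subgroup.centralizer (P : Set G)))) :
    ∀ n ∈ Subgroup.normalizer (P : Set G),
      Cfsg.StabilizesBlock (Subgroup.centralizer (P : Set G)) (normOrbitUnion P e) n := by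
  intro n hn
  have hn' := normalizer_le_normalizer_centralizer P hn
  rw [stabilizesBlock_iff _ _ n hn']
  rintro ξ' ⟨ξ, ⟨x, hx, hξ⟩, rfl⟩
  have hx' := normalizer_le_normalizer_centralizer P hx
  refine ⟨n * x, Subgroup.mul_mem _ hn hx, ?_⟩
  rw [conjSet_mul _ n x hn' hx']
  exact ⟨ξ, hξ, rfl⟩

omit [Fintype G] in
theorem exists_eq_conjSet_of_subset (hM : M.IsPrime) (P : Subgroup G)
    {e f : Set (Cfsg.IrrCharacter (Subgroup.centralizer (P : Set G)))}
    (he : Cfsg.IsPBlock M e) (hf : Cfsg.IsPBlock M f) (hsub : f ⊆ normOrbitUnion P e) :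
    ∃ x : G, ∃ hx : x ∈ Subgroup.normalizer (P : Set G),
      f = conjSet (Subgroup.centralizer (P : Set G)) x
        (normalizer_le_normalizer_centralizer P hx) e := by
  obtain ⟨ξ, hξ⟩ := IsPBlock.nonempty hM hf
  obtain ⟨x, hx, hξx⟩ := hsub hξ
  refine ⟨x, hx, ?_⟩
  have hb := isPBlock_conjSet hM _ x (normalizer_le_normalizer_centralizer P hx) he
  rw [IsPBlock.eq_blockOf hM hf hξ, IsPBlock.eq_blockOf hM hb hξx]

/-- **Vanishing of the orbit idempotent.**  If `(P, e)` is a maximal Brauer pair of `B`, the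
sum of the idempotents of the `N_G(P)`-conjugates of `e` lies in the local ideal at every
element centralizing a `p`-subgroup of `N_G(P)` properly containing `P`. -/
theorem memLocalIdeal_orbit_of_isMaximalBrauerPair {p : ℕ} [Fact p.Prime]
    (hM : Cfsg.IsPModular p M) {B : Set (Cfsg.IrrCharacter G)} {P : Subgroup G}
    {e : Set (Cfsg.IrrCharacter (Subgroup.centralizer (P : Set G)))}
    (hmax : Cfsg.IsMaximalBrauerPair p M B P e) (R : Subgroup G) (hR : IsPGroup p R)
    (hPR : P ≤ R) (hRN : R ≤ Subgroup.normalizer (P : Set G)) (hne : R ≠ P) (y : G)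
    (hy : y ∈ Subgroup.centralizer (R : Set G)) :
    Cfsg.MemLocalIdeal M (ext0 (Subgroup.centralizer (P : Set G))
      (Cfsg.blockCoeff (normOrbitUnion P e)) y) := by
  classical
  have hMp := isPrime_of_isPModular hM
  have he := hmax.1.1.2
  have hfinC : Fintype (Subgroup.centralizer (P : Set G)) := Fintype.ofFinite _
  have := irr_finite (Subgroup.centralizer (P : Set G))
  have hfinS : Fintype (Set (Cfsg.IrrCharacter (Subgroup.centralizer (P : Set G)))) :=
    Fintype.ofFinite _
  have hyC : y ∈ Subgroup.centralizer (P : Set G) := Subgroup.centralizer_le hPR hy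
  have hU := isBlockUnion_normOrbitUnion hMp P he
  have hUs := stabilizes_normOrbitUnion P e
  have hnc : ∀ r : R, (r : G) ∈ Subgroup.normalizer
      ((Subgroup.centralizer (P : Set G) : Subgroup G) : Set G) :=
    fun r => normalizer_le_normalizer_centralizer P (hRN r.2)
  have e1 : ext0 (Subgroup.centralizer (P : Set G)) (Cfsg.blockCoeff (normOrbitUnion P e)) y =
      ∑ f : Set (Cfsg.IrrCharacter (Subgroup.centralizer (P : Set G))),
        if Cfsg.IsPBlock M f ∧ f ⊆ normOrbitUnion P e then
          ext0 (Subgroup.centralizer (P : Set G)) (Cfsg.blockCoeff f) y else 0 := by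
    rw [ext0_of_mem _ _ hyC, blockCoeff_eq_sum_of_isBlockUnion hMp _ hU, Finset.sum_apply]
    refine Finset.sum_congr rfl fun f _ => ?_
    by_cases hf : Cfsg.IsPBlock M f ∧ f ⊆ normOrbitUnion P e
    · rw [if_pos hf, if_pos hf, ext0_of_mem _ _ hyC]
    · rw [if_neg hf, if_neg hf]; rfl
  rw [e1]
  apply sum_memLocalIdeal_of_pgroup_act hM hR
    (fun (r : R) (f : Set (Cfsg.IrrCharacter (Subgroup.centralizer (P : Set G)))) =>
      conjSet (Subgroup.centralizer (P : Set G)) (r : G) (hnc r) f)
    (fun f => conjSet_one _ _ f)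
    (fun u v f => conjSet_mul (Subgroup.centralizer (P : Set G)) (u : G) (v : G) (hnc u) (hnc v)
      (hnc (u * v)) f)
  · intro f
    by_cases hf : Cfsg.IsPBlock M f ∧ f ⊆ normOrbitUnion P e
    · rw [if_pos hf]
      exact locInt_ext0 hMp _ (fun k => memLocalRing_blockCoeff hMp f hf.1 k) y
    · rw [if_neg hf]; exact memLocalRing_zero hMp
  · intro r f
    have hiff : (Cfsg.IsPBlock M (conjSet (Subgroup.centralizer (P : Set G)) (r : G) (hnc r) f) ∧
        conjSet (Subgroup.centralizer (P : Set G)) (r : G) (hnc r) f ⊆ normOrbitUnion P e) ↔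
        (Cfsg.IsPBlock M f ∧ f ⊆ normOrbitUnion P e) := by
      have hrU := conjSet_eq_of_stabilizes hUs (hRN r.2)
      have hrinv : (r : G)⁻¹ ∈ Subgroup.normalizer (P : Set G) :=
        Subgroup.inv_mem _ (hRN r.2)
      have hrU' := conjSet_eq_of_stabilizes hUs hrinv
      constructor
      · rintro ⟨h1, h2⟩
        refine ⟨(isPBlock_conjSet_iff hMp _ _ (hnc r) f).mp h1, ?_⟩
        have h3 : conjSet (Subgroup.centralizer (P : Set G)) (r : G)⁻¹
            (normalizer_le_normalizer_centralizer P hrinv)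
            (conjSet (Subgroup.centralizer (P : Set G)) (r : G) (hnc r) f) ⊆
            conjSet (Subgroup.centralizer (P : Set G)) (r : G)⁻¹
              (normalizer_le_normalizer_centralizer P hrinv) (normOrbitUnion P e) :=
          mapSet_mono _ h2
        rw [conjSet_inv_conjSet, hrU'] at h3
        exact h3
      · rintro ⟨h1, h2⟩
        refine ⟨isPBlock_conjSet hMp _ _ (hnc r) h1, ?_⟩
        have h3 : conjSet (Subgroup.centralizer (P : Set G)) (r : G) (hnc r) f ⊆
            conjSet (Subgroup.centralizer (P : Set G)) (r : G) (hnc r) (normOrbitUnion P e) :=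
          mapSet_mono _ h2
        rw [hrU] at h3
        exact h3
    by_cases hf : Cfsg.IsPBlock M f ∧ f ⊆ normOrbitUnion P e
    · rw [if_pos hf, if_pos (hiff.mpr hf)]
      have h4 := ext0_blockCoeff_conjSet (Subgroup.centralizer (P : Set G)) (r : G) (hnc r) f y
      rw [conj_eq_of_mem_centralizer r.2 hy] at h4
      exact h4
    · rw [if_neg hf, if_neg (fun h => hf (hiff.mp h))]
  · intro f hfix
    by_cases hf : Cfsg.IsPBlock M f ∧ f ⊆ normOrbitUnion P e
    · rw [if_pos hf]
      obtain ⟨x, hx, rfl⟩ := exists_eq_conjSet_of_subset hMp P he hf.1 hf.2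
      have hx' := normalizer_le_normalizer_centralizer P hx
      have hxinv : x⁻¹ ∈ Subgroup.normalizer (P : Set G) := Subgroup.inv_mem _ hx
      have hxinv' := normalizer_le_normalizer_centralizer P hxinv
      have hR' : IsPGroup p (R.map (MulAut.conj x⁻¹).toMonoidHom) := hR.map _
      have hPR' : P ≤ R.map (MulAut.conj x⁻¹).toMonoidHom := by
        intro u hu
        have h1 : x * u * x⁻¹ ∈ P := (Subgroup.mem_normalizer_iff.mp hx u).mp hu
        refine ⟨x * u * x⁻¹, hPR h1, ?_⟩
        simp only [MulEquiv.toMonoidHom_eq_coe, MonoidHom.coe_coe, MulAut.conj_apply, inv_inv]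
        group
      have hmem : ∀ v ∈ R.map (MulAut.conj x⁻¹).toMonoidHom, ∃ r ∈ R, v = x⁻¹ * r * x := by
        rintro v ⟨r, hr, rfl⟩
        refine ⟨r, hr, ?_⟩
        simp [MulAut.conj_apply]
      have hR'N : R.map (MulAut.conj x⁻¹).toMonoidHom ≤ Subgroup.normalizer (P : Set G) := by
        intro v hv
        obtain ⟨r, hr, rfl⟩ := hmem v hv
        exact Subgroup.mul_mem _ (Subgroup.mul_mem _ hxinv (hRN hr)) hx
      have hne' : R.map (MulAut.conj x⁻¹).toMonoidHom ≠ P := by
        intro h
        apply hne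
        apply le_antisymm _ hPR
        intro r hr
        have h1 : x⁻¹ * r * x ∈ P := by
          rw [← h]
          exact ⟨r, hr, by simp [MulAut.conj_apply]⟩
        have h2 := (Subgroup.mem_normalizer_iff.mp hx (x⁻¹ * r * x)).mp h1
        have e2 : x * (x⁻¹ * r * x) * x⁻¹ = r := by group
        rwa [e2] at h2
      have hstab : ∀ v ∈ R.map (MulAut.conj x⁻¹).toMonoidHom,
          Cfsg.StabilizesBlock (Subgroup.centralizer (P : Set G)) e v := by
        intro v hv
        obtain ⟨r, hr, rfl⟩ := hmem v hv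
        have hrn := normalizer_le_normalizer_centralizer P (hRN hr)
        have hv' := normalizer_le_normalizer_centralizer P (hR'N hv)
        rw [stabilizesBlock_iff _ _ _ hv']
        have hrx := Subgroup.mul_mem _ hrn hx'
        have e3 : conjSet (Subgroup.centralizer (P : Set G)) (x⁻¹ * r * x) hv' e =
            conjSet (Subgroup.centralizer (P : Set G)) x⁻¹ hxinv'
              (conjSet (Subgroup.centralizer (P : Set G)) r hrn
                (conjSet (Subgroup.centralizer (P : Set G)) x hx' e)) := by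
          rw [← conjSet_mul _ r x hrn hx' hrx, ← conjSet_mul _ x⁻¹ (r * x) hxinv' hrx
            (Subgroup.mul_mem _ hxinv' hrx)]
          exact conjSet_congr _ (by group) _ _ e
        rw [e3, hfix ⟨r, hr⟩, conjSet_inv_conjSet]
      have hz : x⁻¹ * y * x ∈ Subgroup.centralizer
          ((R.map (MulAut.conj x⁻¹).toMonoidHom : Subgroup G) : Set G) := by
        rw [Subgroup.mem_centralizer_iff]
        intro v hv
        obtain ⟨r, hr, rfl⟩ := hmem v hv
        have h1 := Subgroup.mem_centralizer_iff.mp hy r hr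
        calc x⁻¹ * r * x * (x⁻¹ * y * x) = x⁻¹ * (r * y) * x := by group
          _ = x⁻¹ * (y * r) * x := by rw [h1]
          _ = x⁻¹ * y * x * (x⁻¹ * r * x) := by group
      have h5 := memLocalIdeal_of_isMaximalBrauerPair hM hmax _ hR' hPR' hR'N hne' hstab _ hz
      have h6 := ext0_blockCoeff_conjSet (Subgroup.centralizer (P : Set G)) x hx' e
        (x⁻¹ * y * x)
      have e4 : x * (x⁻¹ * y * x) * x⁻¹ = y := by group
      rw [e4] at h6
      rw [h6]
      exact h5
    · rw [if_neg hf]; exact memLocalIdeal_zero hMp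

end MaxPair

section Lift

variable {G : Type*} [Group G] [Fintype G] {M : Ideal Cfsg.AlgInt}

/-- if the central character of `χ` at a class function with local integer values is not in
the local ideal, then at some element both the class function and the central character of
`χ` are outside the local ideal -/
theorem exists_not_memLocalIdeal_of_omegaF (hM : M.IsPrime) (χ : Cfsg.IrrCharacter G)
    {a : G → ℂ} (hcf : Cfsg.IsClassFunction G a) (ha : LocInt M a)
    (h : ¬ Cfsg.MemLocalIdeal M (omegaF (χ : G → ℂ) a)) :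
    ∃ l : G, ¬ Cfsg.MemLocalIdeal M (a l) ∧
      ¬ Cfsg.MemLocalIdeal M (Cfsg.centralChar (χ : G → ℂ) l) := by
  classical
  by_contra hcon
  push Not at hcon
  apply h
  unfold omegaF
  rw [Finset.sum_div]
  apply sum_class_invariant_mem (Cfsg.MemLocalIdeal M) (memLocalIdeal_zero hM)
    (fun x y hx hy => memLocalIdeal_add hM hx hy) (fun g => a g * (χ : G → ℂ) g / (χ : G → ℂ) 1)
  · intro x h
    simp only [hcf h x, irrCharacter_conj_eq]
  · intro g
    have e : ((Subgroup.centralizer ({g} : Set G)).index : ℂ) *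
        (a g * (χ : G → ℂ) g / (χ : G → ℂ) 1) = a g * Cfsg.centralChar (χ : G → ℂ) g := by
      unfold Cfsg.centralChar; ring
    rw [e]
    by_cases hg : Cfsg.MemLocalIdeal M (a g)
    · exact memLocalIdeal_mul_right hM hg (memLocalRing_centralChar hM χ g)
    · exact memLocalIdeal_mul_left hM (ha g) (hcon g hg)
  · intro x h _
    exact Finset.mem_univ _

/-- the Sylow `p`-subgroups of the centralizer of `g` have the order of the `p`-part of the
order of `P` -/
def CardCond (p : ℕ) (P : Subgroup G) (g : G) : Prop :=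
  (Nat.card (Subgroup.centralizer ({g} : Set G))).factorization p =
    (Nat.card P).factorization p

theorem card_centralizer_conj_eq (x g : G) :
    Nat.card (Subgroup.centralizer ({x * g * x⁻¹} : Set G)) =
      Nat.card (Subgroup.centralizer ({g} : Set G)) := by
  have h1 := Subgroup.card_mul_index (Subgroup.centralizer ({x * g * x⁻¹} : Set G))
  have h2 := Subgroup.card_mul_index (Subgroup.centralizer ({g} : Set G))
  rw [index_centralizer_conj] at h1
  have hpos : 0 < (Subgroup.centralizer ({g} : Set G)).index :=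
    Nat.pos_of_ne_zero Subgroup.index_ne_zero_of_finite
  exact Nat.eq_of_mul_eq_mul_right hpos (h1.trans h2.symm)

theorem cardCond_conj (p : ℕ) (P : Subgroup G) (x g : G) :
    CardCond p P (x * g * x⁻¹) ↔ CardCond p P g := by
  unfold CardCond
  rw [card_centralizer_conj_eq]

theorem cardCond_of_isConj {p : ℕ} {P : Subgroup G} {g h : G} (hc : IsConj g h) :
    CardCond p P g ↔ CardCond p P h := by
  obtain ⟨x, rfl⟩ := isConj_iff.mp hc
  exact (cardCond_conj p P x g).symm

/-- if the Sylow `p`-subgroups of the centralizer of `y ∈ C_G(P)` have the order of the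
`p`-group `P`, then `P` is one of them -/
theorem exists_sylow_eq_of_cardCond {p : ℕ} [Fact p.Prime] {P : Subgroup G} (hP : IsPGroup p P)
    {y : G} (hy : y ∈ Subgroup.centralizer (P : Set G)) (hc : CardCond p P y) :
    ∃ S : Sylow p (Subgroup.centralizer ({y} : Set G)),
      P = (S : Subgroup (Subgroup.centralizer ({y} : Set G))).map
        (Subgroup.centralizer ({y} : Set G)).subtype := by
  obtain ⟨S, hS⟩ := exists_sylow_centralizer_ge p P hP y
    (fun r hr => Subgroup.mem_centralizer_iff.mp hy r hr)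
  refine ⟨S, ?_⟩
  apply Subgroup.eq_of_le_of_card_ge hS
  rw [Subgroup.card_map_of_injective (Subgroup.subtype_injective _), S.card_eq_multiplicity]
  unfold CardCond at hc
  rw [hc]
  exact Nat.le_of_dvd Nat.card_pos (Nat.ordProj_dvd _ _)

/-- **Fusion.**  Two conjugate elements of `C_G(P)` whose centralizers have Sylow
`p`-subgroups of the order of `P` are conjugate under `N_G(P)`. -/
theorem exists_normalizer_conj_of_cardCond {p : ℕ} [Fact p.Prime] {P : Subgroup G}
    (hP : IsPGroup p P) {y y' : G} (hy : y ∈ Subgroup.centralizer (P : Set G))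
    (hy' : y' ∈ Subgroup.centralizer (P : Set G)) (hconj : IsConj y y')
    (hc : CardCond p P y) :
    ∃ n ∈ Subgroup.normalizer (P : Set G), n * y * n⁻¹ = y' := by
  obtain ⟨S, hS⟩ := exists_sylow_eq_of_cardCond hP hy hc
  obtain ⟨t, rfl⟩ := isConj_iff.mp hconj
  exact exists_normalizer_conj P y S hS t hy'

open scoped Classical in
/-- the lift to a class function of `G` of a function on `C_G(P)`, supported on the classes
meeting `C_G(P)` whose centralizers have Sylow `p`-subgroups of the order of `P` -/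
noncomputable def liftFun (p : ℕ) (P : Subgroup G) (a : G → ℂ) (g : G) : ℂ :=
  if h : CardCond p P g ∧ ∃ y, y ∈ Subgroup.centralizer (P : Set G) ∧ IsConj g y then
    a (Classical.choose h.2) else 0

theorem liftFun_of_mem {p : ℕ} [Fact p.Prime] {P : Subgroup G} (hP : IsPGroup p P)
    {a : G → ℂ} (ha : InvBy (Subgroup.normalizer (P : Set G)) a) {x : G}
    (hx : x ∈ Subgroup.centralizer (P : Set G)) (hc : CardCond p P x) :
    liftFun p P a x = a x := by
  have h : CardCond p P x ∧ ∃ y, y ∈ Subgroup.centralizer (P : Set G) ∧ IsConj x y :=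
    ⟨hc, x, hx, IsConj.refl x⟩
  unfold liftFun
  rw [dif_pos h]
  obtain ⟨hy, hconj⟩ := Classical.choose_spec h.2
  obtain ⟨n, hn, hn'⟩ := exists_normalizer_conj_of_cardCond hP hx hy hconj hc
  rw [← hn', ha n hn x]

theorem liftFun_of_not {p : ℕ} {P : Subgroup G} (a : G → ℂ) {g : G}
    (hc : ¬ CardCond p P g) : liftFun p P a g = 0 := by
  unfold liftFun
  rw [dif_neg (fun h => hc h.1)]

theorem cardCond_of_liftFun_ne_zero {p : ℕ} {P : Subgroup G} {a : G → ℂ} {g : G}
    (h : liftFun p P a g ≠ 0) : CardCond p P g := by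
  by_contra hc
  exact h (liftFun_of_not a hc)

theorem liftFun_conj {p : ℕ} [Fact p.Prime] {P : Subgroup G} (hP : IsPGroup p P)
    {a : G → ℂ} (ha : InvBy (Subgroup.normalizer (P : Set G)) a) (x g : G) :
    liftFun p P a (x * g * x⁻¹) = liftFun p P a g := by
  have hgx : IsConj g (x * g * x⁻¹) := isConj_iff.mpr ⟨x, rfl⟩
  by_cases h : CardCond p P g ∧ ∃ y, y ∈ Subgroup.centralizer (P : Set G) ∧ IsConj g y
  · have h' : CardCond p P (x * g * x⁻¹) ∧
        ∃ y, y ∈ Subgroup.centralizer (P : Set G) ∧ IsConj (x * g * x⁻¹) y := by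
      obtain ⟨hc, y, hy, hconj⟩ := h
      exact ⟨(cardCond_conj p P x g).mpr hc, y, hy, hgx.symm.trans hconj⟩
    unfold liftFun
    rw [dif_pos h, dif_pos h']
    obtain ⟨hy, hconj⟩ := Classical.choose_spec h.2
    obtain ⟨hy', hconj'⟩ := Classical.choose_spec h'.2
    have hyy' : IsConj (Classical.choose h'.2) (Classical.choose h.2) :=
      hconj'.symm.trans (hgx.symm.trans hconj)
    have hcy' : CardCond p P (Classical.choose h'.2) := (cardCond_of_isConj hconj').mp h'.1
    obtain ⟨n, hn, hn'⟩ := exists_normalizer_conj_of_cardCond hP hy' hy hyy' hcy'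
    rw [← hn', ha n hn]
  · have h' : ¬ (CardCond p P (x * g * x⁻¹) ∧
        ∃ y, y ∈ Subgroup.centralizer (P : Set G) ∧ IsConj (x * g * x⁻¹) y) := by
      rintro ⟨hc, y, hy, hconj⟩
      exact h ⟨(cardCond_conj p P x g).mp hc, y, hy, hgx.trans hconj⟩
    unfold liftFun
    rw [dif_neg h, dif_neg h']

theorem locInt_liftFun (hM : M.IsPrime) {p : ℕ} {P : Subgroup G} {a : G → ℂ}
    (ha : LocInt M a) : LocInt M (liftFun p P a) := by
  intro g
  unfold liftFun
  split_ifs with h
  · exact ha _
  · exact memLocalRing_zero hM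

/-- for a maximal Brauer pair `(P, e)`, the orbit idempotent lies in the local ideal at the
elements of `C_G(P)` whose centralizers have larger Sylow `p`-subgroups -/
theorem memLocalIdeal_orbit_of_not_cardCond {p : ℕ} [Fact p.Prime] (hM : Cfsg.IsPModular p M)
    {B : Set (Cfsg.IrrCharacter G)} {P : Subgroup G}
    {e : Set (Cfsg.IrrCharacter (Subgroup.centralizer (P : Set G)))}
    (hmax : Cfsg.IsMaximalBrauerPair p M B P e) {x : G}
    (hx : x ∈ Subgroup.centralizer (P : Set G)) (hc : ¬ CardCond p P x) :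
    Cfsg.MemLocalIdeal M (ext0 (Subgroup.centralizer (P : Set G))
      (Cfsg.blockCoeff (normOrbitUnion P e)) x) := by
  have hP := hmax.1.1.1
  obtain ⟨S, hS⟩ := exists_sylow_centralizer_ge p P hP x
    (fun r hr => Subgroup.mem_centralizer_iff.mp hx r hr)
  have hQp : IsPGroup p ((S : Subgroup (Subgroup.centralizer ({x} : Set G))).map
      (Subgroup.centralizer ({x} : Set G)).subtype) := S.isPGroup'.map _
  have hne : P ≠ (S : Subgroup (Subgroup.centralizer ({x} : Set G))).map
      (Subgroup.centralizer ({x} : Set G)).subtype := by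
    intro h
    apply hc
    unfold CardCond
    rw [h, Subgroup.card_map_of_injective (Subgroup.subtype_injective _), S.card_eq_multiplicity,
      Nat.Prime.factorization_pow (Fact.out : p.Prime)]
    simp
  obtain ⟨u, huQ, huN, huP⟩ := exists_mem_normalizer_not_mem hQp hS hne
  have hQx : ∀ r ∈ (S : Subgroup (Subgroup.centralizer ({x} : Set G))).map
      (Subgroup.centralizer ({x} : Set G)).subtype, x * r = r * x := by
    rintro _ ⟨r, -, rfl⟩
    exact (Subgroup.mem_centralizer_iff.mp r.2 x (Set.mem_singleton x))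
  refine memLocalIdeal_orbit_of_isMaximalBrauerPair hM hmax
    ((S : Subgroup (Subgroup.centralizer ({x} : Set G))).map
      (Subgroup.centralizer ({x} : Set G)).subtype ⊓ Subgroup.normalizer (P : Set G))
    (hQp.to_le inf_le_left) (le_inf hS Subgroup.le_normalizer) inf_le_right ?_ x ?_
  · intro h
    apply huP
    rw [← h]
    exact ⟨huQ, huN⟩
  · rw [Subgroup.mem_centralizer_iff]
    intro r hr
    exact (hQx r hr.1).symm

open scoped Classical in
/-- **The lift of the orbit idempotent.**  For a maximal Brauer pair `(P, e)` of `B` there is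
a class function of `G` with local integer values, vanishing outside the classes whose
centralizers have Sylow `p`-subgroups of the order of `P`, and congruent on `C_G(P)` to the
orbit idempotent of `e` modulo the local ideal. -/
theorem exists_lift_of_isMaximalBrauerPair {p : ℕ} [Fact p.Prime] (hM : Cfsg.IsPModular p M)
    {B : Set (Cfsg.IrrCharacter G)} {P : Subgroup G}
    {e : Set (Cfsg.IrrCharacter (Subgroup.centralizer (P : Set G)))}
    (hmax : Cfsg.IsMaximalBrauerPair p M B P e) :
    ∃ z : G → ℂ, Cfsg.IsClassFunction G z ∧ LocInt M z ∧ (∀ g, z g ≠ 0 → CardCond p P g) ∧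
      ∀ ξ : Cfsg.IrrCharacter (Subgroup.centralizer (P : Set G)),
        Cfsg.MemLocalIdeal M
          (Cfsg.brauerOmega P z (ξ : Subgroup.centralizer (P : Set G) → ℂ) -
            if ξ ∈ normOrbitUnion P e then 1 else 0) := by
  classical
  have hMp := isPrime_of_isPModular hM
  obtain ⟨⟨hP, he⟩, hB, hω⟩ := hmax.1
  have hfinC : Fintype (Subgroup.centralizer (P : Set G)) := Fintype.ofFinite _
  have hU := isBlockUnion_normOrbitUnion hMp P he
  have haR : LocInt M (ext0 (Subgroup.centralizer (P : Set G))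
      (Cfsg.blockCoeff (normOrbitUnion P e))) :=
    locInt_ext0 hMp _ (locInt_blockCoeff_of_isBlockUnion hMp _ hU)
  have haN : InvBy (Subgroup.normalizer (P : Set G)) (ext0 (Subgroup.centralizer (P : Set G))
      (Cfsg.blockCoeff (normOrbitUnion P e))) :=
    invBy_ext0_blockCoeff_of_stabilizes (stabilizes_normOrbitUnion P e)
  have haC : InvBy (Subgroup.centralizer (P : Set G)) (ext0 (Subgroup.centralizer (P : Set G))
      (Cfsg.blockCoeff (normOrbitUnion P e))) :=
    invBy_ext0 le_rfl (blockCoeff_isClassFunction _)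
  have hzc : Cfsg.IsClassFunction G (liftFun p P (ext0 (Subgroup.centralizer (P : Set G))
      (Cfsg.blockCoeff (normOrbitUnion P e)))) := fun g x => liftFun_conj hP haN x g
  refine ⟨liftFun p P (ext0 (Subgroup.centralizer (P : Set G))
      (Cfsg.blockCoeff (normOrbitUnion P e))), hzc, locInt_liftFun hMp haR,
      fun g hg => cardCond_of_liftFun_ne_zero hg, ?_⟩
  intro ξ
  have h1 : Cfsg.brauerOmega P (ext0 (Subgroup.centralizer (P : Set G))
      (Cfsg.blockCoeff (normOrbitUnion P e))) (ξ : Subgroup.centralizer (P : Set G) → ℂ) =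
      if ξ ∈ normOrbitUnion P e then 1 else 0 := by
    rw [brauerOmega_eq_omegaF, res_ext0, omegaF_blockCoeff_set]
  rw [← h1, ← brauerOmega_sub]
  have hdiff : LocIdl M (ext0 (Subgroup.centralizer (P : Set G))
      (res (Subgroup.centralizer (P : Set G))
        (liftFun p P (ext0 (Subgroup.centralizer (P : Set G))
          (Cfsg.blockCoeff (normOrbitUnion P e))) -
        ext0 (Subgroup.centralizer (P : Set G)) (Cfsg.blockCoeff (normOrbitUnion P e))))) := by
    apply locIdl_ext0 hMp
    intro k
    rw [res_apply, Pi.sub_apply]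
    by_cases hc : CardCond p P (k : G)
    · rw [liftFun_of_mem hP haN k.2 hc, sub_self]
      exact memLocalIdeal_zero hMp
    · rw [liftFun_of_not _ hc, zero_sub]
      exact memLocalIdeal_neg (memLocalIdeal_orbit_of_not_cardCond hM hmax k.2 hc)
  have hdiffC : InvBy (Subgroup.centralizer (P : Set G))
      (ext0 (Subgroup.centralizer (P : Set G))
      (res (Subgroup.centralizer (P : Set G))
        (liftFun p P (ext0 (Subgroup.centralizer (P : Set G))
          (Cfsg.blockCoeff (normOrbitUnion P e))) -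
        ext0 (Subgroup.centralizer (P : Set G)) (Cfsg.blockCoeff (normOrbitUnion P e))))) :=
    invBy_ext0 le_rfl (isClassFunction_res (invBy_sub (invBy_of_isClassFunction hzc _) haC))
  have h2 := memLocalIdeal_brauerOmega_of_locIdl hMp P ξ hdiff hdiffC
  rwa [brauerOmega_congr P (fun x hx => by rw [ext0_of_mem _ _ hx]; rfl)
    (ξ : Subgroup.centralizer (P : Set G) → ℂ)] at h2

/-- **Conjugacy of the blocks over a maximal pair.**  If `(P, e)` is a maximal Brauer pair of
`B` and `(P, e')` is a Brauer pair of `B`, then `e'` is conjugate to `e` under `N_G(P)`. -/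
theorem exists_conjSet_eq_of_isMaximalBrauerPair {p : ℕ} [Fact p.Prime]
    (hM : Cfsg.IsPModular p M) {B : Set (Cfsg.IrrCharacter G)} {P : Subgroup G}
    {e e' : Set (Cfsg.IrrCharacter (Subgroup.centralizer (P : Set G)))}
    (hmax : Cfsg.IsMaximalBrauerPair p M B P e) (h' : Cfsg.IsBrauerPairOf p M B P e') :
    ∃ x : G, ∃ hx : x ∈ Subgroup.normalizer (P : Set G),
      e' = conjSet (Subgroup.centralizer (P : Set G)) x
        (normalizer_le_normalizer_centralizer P hx) e := by
  classical
  have hMp := isPrime_of_isPModular hM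
  obtain ⟨⟨hP, he⟩, hB, hω⟩ := hmax.1
  obtain ⟨z, hzc, hzR, -, hz⟩ := exists_lift_of_isMaximalBrauerPair hM hmax
  obtain ⟨ξ, hξ⟩ := IsPBlock.nonempty hMp he
  obtain ⟨χ, hχ⟩ := IsPBlock.nonempty hMp hB
  have h1 := hz ξ
  rw [if_pos (subset_normOrbitUnion P e hξ)] at h1
  have h2 := memLocalIdeal_brauerOmega_sub_omegaF hM hmax.1 hξ hχ hzR hzc
  apply exists_eq_conjSet_of_subset hMp P he h'.1.2
  intro ξ' hξ'
  by_contra hn
  have h3 := hz ξ'
  rw [if_neg hn, sub_zero] at h3
  have h4 := memLocalIdeal_brauerOmega_sub_omegaF hM h' hξ' hχ hzR hzc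
  -- `omegaF χ z` lies in the ideal, hence so does `brauerOmega P z ξ`, which is `≡ 1`
  have h5 := memLocalIdeal_sub hMp h3 h4
  rw [sub_sub_cancel] at h5
  have h6 := memLocalIdeal_add hMp h2 h5
  rw [sub_add_cancel] at h6
  exact not_memLocalIdeal_of_sub_one hMp h1 h6

/-- the order of a finite `p`-group is the `p`-part of its order -/
theorem pow_factorization_card_of_isPGroup {p : ℕ} [Fact p.Prime] {P : Subgroup G}
    (hP : IsPGroup p P) : p ^ (Nat.card P).factorization p = Nat.card P := by
  obtain ⟨k, hk⟩ := IsPGroup.iff_card.mp hP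
  rw [hk, Nat.Prime.factorization_pow (Fact.out : p.Prime)]
  simp

/-- a conjugate of a defect group is a defect group -/
theorem isDefectGroup_map_conj {p : ℕ} [Fact p.Prime] {B : Set (Cfsg.IrrCharacter G)}
    {D : Subgroup G} (hD : Cfsg.IsDefectGroup p M B D) (s : G) :
    Cfsg.IsDefectGroup p M B (D.map (MulAut.conj s).toMonoidHom) := by
  obtain ⟨g, hg, S, rfl⟩ := hD
  refine ⟨s * g * s⁻¹, isDefectClass_conj hg s, ?_⟩
  have hDp : IsPGroup p (((S : Subgroup (Subgroup.centralizer ({g} : Set G))).map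
      (Subgroup.centralizer ({g} : Set G)).subtype).map (MulAut.conj s).toMonoidHom) :=
    (S.isPGroup'.map _).map _
  obtain ⟨S', hS'⟩ := exists_sylow_centralizer_ge p _ hDp (s * g * s⁻¹) (by
    rintro _ ⟨_, ⟨r, -, rfl⟩, rfl⟩
    have hr := Subgroup.mem_centralizer_iff.mp r.2 g (Set.mem_singleton g)
    show s * (r : G) * s⁻¹ * (s * g * s⁻¹) = s * g * s⁻¹ * (s * (r : G) * s⁻¹)
    calc s * (r : G) * s⁻¹ * (s * g * s⁻¹) = s * ((r : G) * g) * s⁻¹ := by group
      _ = s * (g * (r : G)) * s⁻¹ := by rw [hr]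
      _ = s * g * s⁻¹ * (s * (r : G) * s⁻¹) := by group)
  refine ⟨S', Subgroup.eq_of_le_of_card_ge hS' ?_⟩
  rw [card_map_conj, Subgroup.card_map_of_injective (Subgroup.subtype_injective _),
    Subgroup.card_map_of_injective (Subgroup.subtype_injective _), S.card_eq_multiplicity,
    S'.card_eq_multiplicity, card_centralizer_conj_eq]

/-- a Brauer pair of `B` has an element of `C_G(P)` at which the idempotent of `B` is outside
the local ideal -/
theorem exists_not_memLocalIdeal_blockCoeff_of_isBrauerPairOf {p : ℕ} [Fact p.Prime]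
    (hM : M.IsPrime) {B : Set (Cfsg.IrrCharacter G)} {P : Subgroup G}
    {e : Set (Cfsg.IrrCharacter (Subgroup.centralizer (P : Set G)))}
    (h : Cfsg.IsBrauerPairOf p M B P e) :
    ∃ g ∈ Subgroup.centralizer (P : Set G), ¬ Cfsg.MemLocalIdeal M (Cfsg.blockCoeff B g) := by
  obtain ⟨⟨hP, he⟩, hB, hω⟩ := h
  obtain ⟨ξ, hξ⟩ := IsPBlock.nonempty hM he
  by_contra hcon
  push Not at hcon
  have hI : LocIdl M (ext0 (Subgroup.centralizer (P : Set G))
      (res (Subgroup.centralizer (P : Set G)) (Cfsg.blockCoeff B))) := by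
    apply locIdl_ext0 hM
    intro k
    exact hcon k k.2
  have hIC : InvBy (Subgroup.centralizer (P : Set G))
      (ext0 (Subgroup.centralizer (P : Set G))
        (res (Subgroup.centralizer (P : Set G)) (Cfsg.blockCoeff B))) :=
    invBy_ext0 le_rfl (isClassFunction_res
      (invBy_of_isClassFunction (blockCoeff_isClassFunction B) _))
  have h7 := memLocalIdeal_brauerOmega_of_locIdl hM P ξ hI hIC
  rw [brauerOmega_congr P (fun x hx => by rw [ext0_of_mem _ _ hx]; rfl)
    (ξ : Subgroup.centralizer (P : Set G) → ℂ)] at h7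
  exact not_memLocalIdeal_of_sub_one hM (hω ξ hξ) h7

/-- **Order bound.**  If `(P, e)` is a maximal Brauer pair of `B`, then the defect groups of
`B` have order at most the order of `P`. -/
theorem card_le_of_isMaximalBrauerPair {p : ℕ} [Fact p.Prime] (hM : Cfsg.IsPModular p M)
    {B : Set (Cfsg.IrrCharacter G)} {P : Subgroup G}
    {e : Set (Cfsg.IrrCharacter (Subgroup.centralizer (P : Set G)))}
    (hmax : Cfsg.IsMaximalBrauerPair p M B P e) {D : Subgroup G}
    (hD : Cfsg.IsDefectGroup p M B D) : Nat.card D ≤ Nat.card P := by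
  classical
  have hMp := isPrime_of_isPModular hM
  obtain ⟨⟨hP, he⟩, hB, hω⟩ := hmax.1
  obtain ⟨z, hzc, hzR, hz0, hz⟩ := exists_lift_of_isMaximalBrauerPair hM hmax
  obtain ⟨ξ, hξ⟩ := IsPBlock.nonempty hMp he
  obtain ⟨χ, hχ⟩ := IsPBlock.nonempty hMp hB
  have h1 := hz ξ
  rw [if_pos (subset_normOrbitUnion P e hξ)] at h1
  have h2 := memLocalIdeal_brauerOmega_sub_omegaF hM hmax.1 hξ hχ hzR hzc
  have h4 : ¬ Cfsg.MemLocalIdeal M (omegaF (χ : G → ℂ) z) := by
    intro h
    have h6 := memLocalIdeal_add hMp h2 h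
    rw [sub_add_cancel] at h6
    exact not_memLocalIdeal_of_sub_one hMp h1 h6
  obtain ⟨l, hl1, hl2⟩ := exists_not_memLocalIdeal_of_omegaF hMp χ hzc hzR h4
  have hlc : CardCond p P l :=
    hz0 l (fun h0 => hl1 (by rw [h0]; exact memLocalIdeal_zero hMp))
  obtain ⟨g0, hg0, D0, rfl⟩ := hD
  obtain ⟨x, Q, hxQ⟩ := minmax_b hM B hB g0 hg0 D0 l ⟨χ, hχ, hl2⟩
  have h5 := Subgroup.card_le_of_le hxQ
  rw [card_map_conj, Subgroup.card_map_of_injective (Subgroup.subtype_injective _),
    Subgroup.card_map_of_injective (Subgroup.subtype_injective _), Q.card_eq_multiplicity] at h5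
  unfold CardCond at hlc
  rw [hlc, pow_factorization_card_of_isPGroup hP] at h5
  rw [Subgroup.card_map_of_injective (Subgroup.subtype_injective _)]
  exact h5

end Lift

end Cfsg.Agent.Lib.Helper77
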