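import Mathlib
import Cfsg.Prelude.Def_Blocks
import Cfsg.Prelude.Def_BlockLocal
import Cfsg.Prelude.Def_BrauerPairs
import Cfsg.Agent.Lib.Helper77.PairTools

/-!
# Abelian defect groups: conjugations between subpairs come from the inertial group

If `(Q, f) ≤ (P, e)` and `(Q, f) ≤ (P, e)^x` with `(P, e)` maximal and `P` abelian, then
`c * x` lies in the stabilizer of `(P, e)` for some `c ∈ C_G(Q)`.
-/

set_option autoImplicit false
set_option linter.unusedSectionVars false

namespace Cfsg.Agent.Lib.Helper77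

open Cfsg Cfsg.Agent.Lib.Helper16 Cfsg.Agent.Lib.Helper81

section AbelianConj

variable {G : Type*} [Group G] [Fintype G] {M : Ideal Cfsg.AlgInt} {p : ℕ} [Fact p.Prime]

/-- **Abelian defect groups: control of fusion.**  Let `(P, e)` be a maximal Brauer pair with
`P` abelian and `(Q, f) ≤ (P, e)`.  If also `(Q, f) ≤ (P, e)^x`, then `c * x` normalizes `P`
and stabilizes `e` for some `c ∈ C_G(Q)`. -/
theorem exists_mul_mem_stabilizer_of_subpairLE_conj (hM : Cfsg.IsPModular p M)
    {B : Set (Cfsg.IrrCharacter G)} {P : Subgroup G}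
    {e : Set (Cfsg.IrrCharacter (Subgroup.centralizer (P : Set G)))}
    (hmax : Cfsg.IsMaximalBrauerPair p M B P e) (hab : ∀ x ∈ P, ∀ y ∈ P, x * y = y * x)
    {Q : Subgroup G} {f : Set (Cfsg.IrrCharacter (Subgroup.centralizer (Q : Set G)))}
    (hQP : Q ≤ P) (hf : Cfsg.IsPBlock M f) (hle : Cfsg.SubpairLE p M Q f P e) (x : G)
    (hle₂ : Cfsg.SubpairLE p M Q f (P.map (MulAut.conj x).toMonoidHom)
      (Cfsg.conjBlock P x e)) :
    ∃ c ∈ Subgroup.centralizer (Q : Set G), c * x ∈ Subgroup.normalizer (P : Set G) ∧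
      Cfsg.StabilizesBlock (Subgroup.centralizer (P : Set G)) e (c * x) := by
  classical
  have hMp := isPrime_of_isPModular hM
  have hfinH : Fintype (Subgroup.centralizer (Q : Set G)) := Fintype.ofFinite _
  have hPH : P ≤ Subgroup.centralizer (Q : Set G) := by
    intro u hu
    rw [Subgroup.mem_centralizer_iff]
    intro q hq
    exact hab q (hQP hq) u hu
  have hCH : Subgroup.centralizer (P : Set G) ≤ Subgroup.centralizer (Q : Set G) :=
    Subgroup.centralizer_le hQP
  -- the conjugate pair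
  have hmax₂ := isMaximalBrauerPair_conjBlock hM hmax x
  have hQP₂ : Q ≤ P.map (MulAut.conj x).toMonoidHom :=
    subpairLE_le (a := ⟨Q, f⟩) (b := ⟨_, Cfsg.conjBlock P x e⟩) hle₂
  have hP₂H : P.map (MulAut.conj x).toMonoidHom ≤ Subgroup.centralizer (Q : Set G) := by
    rintro _ ⟨u, hu, rfl⟩
    rw [Subgroup.mem_centralizer_iff]
    intro q hq
    obtain ⟨v, hv, hvq⟩ := hQP₂ hq
    have hvq' : x * v * x⁻¹ = q := hvq
    show q * (x * u * x⁻¹) = x * u * x⁻¹ * q
    rw [← hvq']
    have h1 := hab v hv u hu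
    calc x * v * x⁻¹ * (x * u * x⁻¹) = x * (v * u) * x⁻¹ := by group
      _ = x * (u * v) * x⁻¹ := by rw [h1]
      _ = x * u * x⁻¹ * (x * v * x⁻¹) := by group
  have hC₂H : Subgroup.centralizer ((P.map (MulAut.conj x).toMonoidHom : Subgroup G) : Set G) ≤
      Subgroup.centralizer (Q : Set G) := Subgroup.centralizer_le hQP₂
  have hm₁ := isMaximalBrauerPair_centralizer hM hmax hf hle hPH hCH
  have hm₂ := isMaximalBrauerPair_centralizer hM hmax₂ hf hle₂ hP₂H hC₂H
  obtain ⟨c, hc⟩ := Cfsg.Agent.S4660.result p M hM f _ _ _ _ hm₁ hm₂.1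
  have hle' : ((P.map (MulAut.conj x).toMonoidHom).subgroupOf
      (Subgroup.centralizer (Q : Set G))).map (MulAut.conj c).toMonoidHom ≤
      P.subgroupOf (Subgroup.centralizer (Q : Set G)) := subpairLE_le hc
  have hcard : Nat.card (P.subgroupOf (Subgroup.centralizer (Q : Set G))) ≤
      Nat.card ((((P.map (MulAut.conj x).toMonoidHom).subgroupOf
        (Subgroup.centralizer (Q : Set G))).map (MulAut.conj c).toMonoidHom :
          Subgroup (Subgroup.centralizer (Q : Set G)))) := by
    rw [card_map_conj, Nat.card_congr (Subgroup.subgroupOfEquivOfLe hPH).toEquiv,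
      Nat.card_congr (Subgroup.subgroupOfEquivOfLe hP₂H).toEquiv, card_map_conj]
  have hgrp : ((P.map (MulAut.conj x).toMonoidHom).subgroupOf
      (Subgroup.centralizer (Q : Set G))).map (MulAut.conj c).toMonoidHom =
      P.subgroupOf (Subgroup.centralizer (Q : Set G)) :=
    Subgroup.eq_of_le_of_card_ge hle' hcard
  have hsig := eq_of_subpairLE_of_eq hM hc hm₁.1.1 hgrp
  -- back in `G`
  have hgrpG : (P.map (MulAut.conj x).toMonoidHom).map (MulAut.conj (c : G)).toMonoidHom = P := by
    ext z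
    constructor
    · rintro ⟨u, hu, rfl⟩
      have h1 : c * (⟨u, hP₂H hu⟩ : Subgroup.centralizer (Q : Set G)) * c⁻¹ ∈
          ((P.map (MulAut.conj x).toMonoidHom).subgroupOf
            (Subgroup.centralizer (Q : Set G))).map (MulAut.conj c).toMonoidHom :=
        ⟨⟨u, hP₂H hu⟩, Subgroup.mem_subgroupOf.mpr hu, rfl⟩
      rw [hgrp] at h1
      exact Subgroup.mem_subgroupOf.mp h1
    · intro hz
      have h1 : (⟨z, hPH hz⟩ : Subgroup.centralizer (Q : Set G)) ∈
          P.subgroupOf (Subgroup.centralizer (Q : Set G)) := Subgroup.mem_subgroupOf.mpr hz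
      rw [← hgrp] at h1
      obtain ⟨u', hu', hu'z⟩ := h1
      refine ⟨(u' : G), Subgroup.mem_subgroupOf.mp hu', ?_⟩
      exact congrArg Subtype.val hu'z
  have hcx : P.map (MulAut.conj (c * x)).toMonoidHom = P := by
    rw [← map_conj_map_conj]
    exact hgrpG
  have hcxn : c * x ∈ Subgroup.normalizer (P : Set G) := mem_normalizer_of_map_conj_eq hcx
  refine ⟨c, c.2, hcxn, ?_⟩
  have h₁ : CentEq (Subgroup.centralizer (Q : Set G))
      ((P.map (MulAut.conj x).toMonoidHom).subgroupOf (Subgroup.centralizer (Q : Set G)))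
      (P.map (MulAut.conj x).toMonoidHom) := centEq_subgroupOf _ _ hP₂H hC₂H
  have h₂ : CentEq (Subgroup.centralizer (Q : Set G))
      (((P.map (MulAut.conj x).toMonoidHom).subgroupOf
        (Subgroup.centralizer (Q : Set G))).map (MulAut.conj c).toMonoidHom) P := by
    rw [hgrp]
    exact centEq_subgroupOf _ P hPH hCH
  have key := mapSet_subCentIso_conjBlock (Subgroup.centralizer (Q : Set G)) c
    ((P.map (MulAut.conj x).toMonoidHom).subgroupOf (Subgroup.centralizer (Q : Set G)))
    (P.map (MulAut.conj x).toMonoidHom) P h₁ h₂ hgrpG.symm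
    (mapSet (subCentIso (Subgroup.centralizer (Q : Set G))
        ((P.map (MulAut.conj x).toMonoidHom).subgroupOf (Subgroup.centralizer (Q : Set G)))
        (P.map (MulAut.conj x).toMonoidHom) (centEq_subgroupOf _ _ hP₂H hC₂H)).symm
      (Cfsg.conjBlock P x e))
  have hR : conjBlockTo (c : G) (P.map (MulAut.conj x).toMonoidHom) P (Cfsg.conjBlock P x e) =
      conjSet (Subgroup.centralizer (P : Set G)) ((c : G) * x)
        (normalizer_le_normalizer_centralizer P hcxn) e := by
    rw [conjBlock_eq P x e, conjBlockTo_conjBlockTo x (c : G) P _ P rfl hgrpG.symm e,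
      conjBlockTo_eq_conjSet P ((c : G) * x) hcxn]
  rw [mapSet_mapSet_symm, hR,
    mapSet_subCentIso_congr (Subgroup.centralizer (Q : Set G)) hsig P h₂
      (centEq_subgroupOf _ P hPH hCH), mapSet_mapSet_symm] at key
  rw [stabilizesBlock_iff _ _ _ (normalizer_le_normalizer_centralizer P hcxn), ← key]

end AbelianConj

end Cfsg.Agent.Lib.Helper77
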