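import Mathlib
import Cfsg.Prelude.Def_Blocks
import Cfsg.Prelude.Def_BlockRank
import Cfsg.Prelude.Def_BlockLocal
import Cfsg.Prelude.Def_BrauerPairs
import Cfsg.Agent.Lib.Helper77.KleinPairs
import Cfsg.Agent.Lib.Helper79.QuotDefectP
import Cfsg.Agent.Lib.Helper79.QuotBlockP
import Cfsg.Agent.Lib.Helper79.BlockRank
import Cfsg.Agent.Lib.Helper76.DefectOne
import Cfsg.Agent.Lib.Helper76.MajorRank2
import Cfsg.Agent.Lib.Helper77.SubsecCount
import Cfsg.Agent.Lib.Helper77.IndPairs
import Cfsg.Agent.S4687
import Cfsg.Agent.S4688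

/-!
# Nilpotent blocks with abelian defect groups have one irreducible Brauer character

* `blockRank_eq_one_of_central_defect`: a block with a central defect group has `p`-regular
  rank one.
-/

set_option autoImplicit false
set_option linter.unusedSectionVars false

namespace Cfsg.Agent.Lib.Helper77

open Cfsg Cfsg.Agent.Lib.Helper16 Cfsg.Agent.Lib.Helper81

section Central

variable {G : Type*} [Group G] [Fintype G] {M : Ideal Cfsg.AlgInt} {p : ℕ} [Fact p.Prime]

/-- the `p`-regular rank of a set of characters all of whose `p`-regular parts are multiples of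
the `p`-regular part of one member -/
theorem blockRank_eq_one_of_multiples (B : Set (Cfsg.IrrCharacter G)) (χ₀ : Cfsg.IrrCharacter G)
    (hχ₀ : χ₀ ∈ B)
    (h : ∀ θ ∈ B, ∃ c : ℂ, ∀ x : G, ¬ p ∣ orderOf x →
      (θ : G → ℂ) x = c * (χ₀ : G → ℂ) x) : Cfsg.blockRank p B = 1 := by
  classical
  have hp : p.Prime := Fact.out
  have hv : Cfsg.pRegularPart p (χ₀ : G → ℂ) ≠ 0 := by
    intro h0
    have h1 := congrFun h0 (1 : G)
    unfold Cfsg.pRegularPart at h1
    rw [if_pos (show Cfsg.IsPRegular p (1 : G) by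
      unfold Cfsg.IsPRegular; rw [orderOf_one]; exact hp.one_lt.ne' ∘ Nat.dvd_one.mp)] at h1
    exact Cfsg.Agent.Lib.Helper16.irr_one_ne_zero χ₀ h1
  have hspan : Submodule.span ℂ ((fun χ : Cfsg.IrrCharacter G =>
      Cfsg.pRegularPart p (χ : G → ℂ)) '' B) =
      Submodule.span ℂ {Cfsg.pRegularPart p (χ₀ : G → ℂ)} := by
    apply le_antisymm
    · rw [Submodule.span_le]
      rintro _ ⟨θ, hθ, rfl⟩
      obtain ⟨c, hc⟩ := h θ hθ
      have e : Cfsg.pRegularPart p (θ : G → ℂ) = c • Cfsg.pRegularPart p (χ₀ : G → ℂ) := by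
        funext x
        unfold Cfsg.pRegularPart
        by_cases hx : Cfsg.IsPRegular p x
        · simp only [Pi.smul_apply, smul_eq_mul, if_pos hx]
          exact hc x hx
        · simp only [Pi.smul_apply, smul_eq_mul, if_neg hx, mul_zero]
      show Cfsg.pRegularPart p (θ : G → ℂ) ∈
        Submodule.span ℂ {Cfsg.pRegularPart p (χ₀ : G → ℂ)}
      rw [e]
      exact Submodule.smul_mem _ _ (Submodule.mem_span_singleton_self _)
    · rw [Submodule.span_le]
      intro v hv'
      rw [Set.mem_singleton_iff] at hv'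
      rw [hv']
      exact Submodule.subset_span ⟨χ₀, hχ₀, rfl⟩
  unfold Cfsg.blockRank
  rw [hspan]
  exact finrank_span_singleton hv

/-- **Central defect groups.**  A block whose defect group is central has `p`-regular rank
one. -/
theorem blockRank_eq_one_of_central_defect (hM : Cfsg.IsPModular p M)
    (B : Set (Cfsg.IrrCharacter G)) (hB : Cfsg.IsPBlock M B) (P : Subgroup G)
    (hP : Cfsg.IsDefectGroup p M B P) (hcen : ∀ x ∈ P, ∀ g : G, g * x = x * g) :
    Cfsg.blockRank p B = 1 := by
  classical
  have hMp := isPrime_of_isPModular hM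
  have hp : p.Prime := Fact.out
  haveI : P.Normal := ⟨fun n hn g => by
    rw [hcen n hn g, mul_inv_cancel_right]; exact hn⟩
  have hPp : IsPGroup p P := isPGroup_of_isDefectGroup hP
  haveI : Fintype (G ⧸ P) := Fintype.ofFinite _
  haveI : Finite (Cfsg.IrrCharacter (G ⧸ P)) := Cfsg.Agent.Lib.Helper77.irr_finite _
  haveI : Fintype (Cfsg.IrrCharacter (G ⧸ P)) := Fintype.ofFinite _
  have hsup : P ⊔ Subgroup.centralizer (P : Set G) = ⊤ := by
    rw [eq_top_iff]
    intro g _
    apply Subgroup.mem_sup_right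
    rw [Subgroup.mem_centralizer_iff]
    intro x hx
    exact (hcen x hx g).symm
  obtain ⟨Bbar, hBbar, hinf, hdef⟩ :=
    Cfsg.Agent.Lib.Helper79.exists_block_quot_defect P hM hPp B hB
  have hbot : Cfsg.IsDefectGroup p M Bbar (⊥ : Subgroup (G ⧸ P)) := by
    rw [hdef]
    exact ⟨P, hP, (QuotientGroup.map_mk'_self P).symm⟩
  have hcard := card_isDefectGroup hM Bbar hBbar _ hbot
  rw [Subgroup.card_bot] at hcard
  have hd0 : Cfsg.blockDefect p Bbar = 0 := by
    by_contra hne
    have : 1 < p ^ Cfsg.blockDefect p Bbar := Nat.one_lt_pow hne hp.one_lt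
    omega
  obtain ⟨χ₀, hχ₀⟩ := IsPBlock.nonempty hMp hBbar
  have hdeg : (Cfsg.charDegree (χ₀ : G ⧸ P → ℂ)).factorization p =
      (Nat.card (G ⧸ P)).factorization p := by
    obtain ⟨h1, hpos, hdvd⟩ := Cfsg.Agent.Lib.Helper79.irr_charDegree χ₀.2
    have hmem : (Cfsg.charDegree (χ₀ : G ⧸ P → ℂ)).factorization p ∈
        ((fun χ : Cfsg.IrrCharacter (G ⧸ P) =>
          (Cfsg.charDegree (χ : G ⧸ P → ℂ)).factorization p) '' Bbar) := ⟨χ₀, hχ₀, rfl⟩
    have hle := Nat.sInf_le hmem
    have hs : (Cfsg.charDegree (χ₀ : G ⧸ P → ℂ)).factorization p ≤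
        (Nat.card (G ⧸ P)).factorization p :=
      (Nat.factorization_le_iff_dvd hpos.ne' Nat.card_pos.ne').2 hdvd p
    unfold Cfsg.blockDefect at hd0
    omega
  have hχ₀B := hinf χ₀ hχ₀
  apply blockRank_eq_one_of_multiples B _ hχ₀B
  intro θ hθ
  obtain ⟨c, hc0, hc⟩ := Cfsg.Agent.Lib.Helper79.pRegular_expansion_quot P hM hPp hsup B hB θ hθ
  refine ⟨c χ₀, fun x hx => ?_⟩
  rw [hc x hx, Finset.sum_eq_single χ₀]
  · rfl
  · intro χ _ hne
    by_cases hχB : (Cfsg.Agent.Lib.Helper80.inflateIrr P χ : Cfsg.IrrCharacter G) ∈ B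
    · exfalso
      apply hne
      have hs : Cfsg.SameBlock M
          (((Cfsg.Agent.Lib.Helper80.inflateIrr P χ₀ : Cfsg.IrrCharacter G)) : G → ℂ)
          (((Cfsg.Agent.Lib.Helper80.inflateIrr P χ : Cfsg.IrrCharacter G)) : G → ℂ) :=
        IsPBlock.sameBlock hMp hB hχ₀B hχB
      have hs' := Cfsg.Agent.Lib.Helper79.sameBlock_deflate_of_centralizer P hM hPp hsup χ₀ χ hs
      exact (Cfsg.Agent.Lib.Helper79.eq_of_sameBlock_of_defect_zero hM χ₀ χ hs' hdeg).symm
    · rw [hc0 χ hχB, zero_mul]
  · intro h
    exact absurd (Finset.mem_univ _) h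

end Central

section Induction

universe u

/-- **Nilpotent blocks with abelian defect groups have a unique irreducible Brauer
character**: their `p`-regular rank is one. -/
theorem blockRank_eq_one_of_nilpotent_abelian_aux {p : ℕ} [Fact p.Prime]
    {M : Ideal Cfsg.AlgInt} (hM : Cfsg.IsPModular p M) :
    ∀ (n : ℕ) (G : Type u) [Group G] [Fintype G], Nat.card G = n →
      ∀ (B : Set (Cfsg.IrrCharacter G)), Cfsg.IsNilpotentBlock p M B →
      ∀ (P : Subgroup G), Cfsg.IsDefectGroup p M B P → (∀ x ∈ P, ∀ y ∈ P, x * y = y * x) →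
      Cfsg.blockRank p B = 1 := by
  intro n
  induction n using Nat.strong_induction_on with
  | _ n ih =>
    intro G _ _ hn B hnilB P hP hab
    classical
    have hMp := isPrime_of_isPModular hM
    have hp : p.Prime := Fact.out
    have hB : Cfsg.IsPBlock M B := hnilB.1
    by_cases hcen : ∀ x ∈ P, ∀ g : G, g * x = x * g
    · exact blockRank_eq_one_of_central_defect hM B hB P hP hcen
    · push_neg at hcen
      obtain ⟨u, hu, g, hgu⟩ := hcen
      obtain ⟨c, hmax⟩ := exists_isMaximalBrauerPair_of_isDefectGroup hM hB hP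
      have hPe : Cfsg.IsBrauerPair p M P c := hmax.1.1
      have hnil := (Cfsg.Agent.S4687.result p M hM B P c hmax hab).mp hnilB
      have hQP : Subgroup.zpowers u ≤ P := by
        rw [Subgroup.zpowers_le]; exact hu
      obtain ⟨f, hf, hle⟩ := exists_subpairLE hM P c hPe _ (Subgroup.zpowers u) hQP le_rfl
      have hBf : Cfsg.IsBrauerPairOf p M B (Subgroup.zpowers u) f :=
        isBrauerPairOf_of_subpairLE_down hM (a := ⟨Subgroup.zpowers u, f⟩) (b := ⟨P, c⟩) hle
          hmax.1
      obtain ⟨hnilf, hdeff⟩ := Cfsg.Agent.S4688.result p M hM B P c hmax hnilB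
        (Subgroup.zpowers u) f hBf
      have hdf := hdeff hle
      have hC : ∀ g : G, g ∈ Subgroup.centralizer (Subgroup.zpowers u : Set G) ↔
          g * u = u * g := by
        intro g
        rw [centralizer_zpowers_eq, Subgroup.mem_centralizer_iff]
        constructor
        · intro h; exact (h u rfl).symm
        · intro h y hy
          rw [Set.mem_singleton_iff] at hy
          rw [hy]; exact h.symm
      have hPH : P ≤ Subgroup.centralizer (Subgroup.zpowers u : Set G) := by
        intro y hy
        rw [hC]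
        exact hab y hy u hu
      letI : Fintype (Subgroup.centralizer (Subgroup.zpowers u : Set G)) := Fintype.ofFinite _
      -- the order of the centralizer is smaller
      have hlt : Nat.card (Subgroup.centralizer (Subgroup.zpowers u : Set G)) < n := by
        rw [← hn]
        apply lt_of_le_of_ne (Subgroup.card_le_card_group _)
        intro heq
        have htop := Subgroup.eq_top_of_card_eq _ heq
        have hg : g ∈ Subgroup.centralizer (Subgroup.zpowers u : Set G) := by
          rw [htop]; exact Subgroup.mem_top g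
        exact hgu ((hC g).mp hg)
      have hab' : ∀ x ∈ (P ⊓ Subgroup.centralizer (Subgroup.zpowers u : Set G)).subgroupOf
          (Subgroup.centralizer (Subgroup.zpowers u : Set G)),
          ∀ y ∈ (P ⊓ Subgroup.centralizer (Subgroup.zpowers u : Set G)).subgroupOf
          (Subgroup.centralizer (Subgroup.zpowers u : Set G)), x * y = y * x := by
        intro x hx y hy
        apply Subtype.ext
        exact hab _ (Subgroup.mem_subgroupOf.mp hx).1 _ (Subgroup.mem_subgroupOf.mp hy).1
      have hrank := ih _ hlt (Subgroup.centralizer (Subgroup.zpowers u : Set G)) rfl f hnilf _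
        hdf hab'
      -- the defect of `f`
      have hcardP := card_isDefectGroup hM B hB P hP
      have hcardf := card_isDefectGroup hM f hf _ hdf
      have hcc : Nat.card ((P ⊓ Subgroup.centralizer (Subgroup.zpowers u : Set G)).subgroupOf
          (Subgroup.centralizer (Subgroup.zpowers u : Set G))) = Nat.card P := by
        rw [inf_of_le_left hPH]
        exact Nat.card_congr (Subgroup.subgroupOfEquivOfLe hPH).toEquiv
      have hdef : Cfsg.blockDefect p f = Cfsg.blockDefect p B := by
        rw [hcc, hcardP] at hcardf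
        exact (Nat.pow_right_injective hp.two_le hcardf).symm
      obtain ⟨k, hk⟩ : ∃ k : ℕ, orderOf u = p ^ k := by
        obtain ⟨k, hk⟩ := (IsPGroup.iff_orderOf.mp hPe.1) ⟨u, hu⟩
        exact ⟨k, by rw [← hk, ← Subgroup.orderOf_coe]⟩
      have hind := isInducedBlock_of_isBrauerPairOf hM (zpowers_le_centralizer_zpowers u) hBf
      haveI : Finite (Cfsg.IrrCharacter G) := Cfsg.Agent.Lib.Helper77.irr_finite G
      letI : Fintype (Cfsg.IrrCharacter G) := Fintype.ofFinite _
      have hle2 := Cfsg.Agent.Lib.Helper76.major_rank_two hM B u k hk _ hC f hind hdef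
        (by rw [hrank]; norm_num)
      have hcard : Nat.card B = (Finset.univ.filter (· ∈ B)).card := by
        rw [← Fintype.card_subtype]
        exact Nat.card_eq_fintype_card
      rw [← hcard, ← hcardP] at hle2
      have hge := blockRank_add_card_le hM hmax hab hnil
      have hpos := Cfsg.Agent.Lib.Helper76.blockRank_pos hp hMp B hB
      have hPpos : 0 < Nat.card P := Nat.card_pos
      omega

/-- **Nilpotent blocks with abelian defect groups have a unique irreducible Brauer
character**: their `p`-regular rank is one. -/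
theorem blockRank_eq_one_of_nilpotent_abelian {p : ℕ} [Fact p.Prime]
    {M : Ideal Cfsg.AlgInt} (hM : Cfsg.IsPModular p M) {G : Type u} [Group G] [Fintype G]
    (B : Set (Cfsg.IrrCharacter G)) (hnil : Cfsg.IsNilpotentBlock p M B)
    (P : Subgroup G) (hP : Cfsg.IsDefectGroup p M B P)
    (hab : ∀ x ∈ P, ∀ y ∈ P, x * y = y * x) : Cfsg.blockRank p B = 1 :=
  blockRank_eq_one_of_nilpotent_abelian_aux hM _ G rfl B hnil P hP hab

end Induction

end Cfsg.Agent.Lib.Helper77
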